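import Mathlib
import Cfsg.Agent.H511.Wt.MinMod
import Cfsg.Agent.H511.Wt.OddFx
import Cfsg.Agent.S0009
import Cfsg.Agent.S0027
import Cfsg.Agent.S0029
import Cfsg.Agent.S0044
import Cfsg.Agent.DS.Ord.PGrp
import Cfsg.Prelude.Def_KGroupFacts
import Cfsg.Agent.DS.Gen.Split
import Cfsg.Agent.H481.TBound
import Cfsg.Agent.H348.Trans.Pairing
import Cfsg.Agent.S0023
import Cfsg.Agent.H511.Wt.Affine
import Cfsg.Agent.FastGrp
import Cfsg.Agent.Prune
set_option linter.all false

section
prune_inst 0x7ff1ecf89bbce9dfffff7e3faefcdffc39869fffe6dff94bffe06bffabdf238209e5fb8d09e098fe1e96c01410b87803f9ffc67fe36bdc7ffffd5ff45ffbee0fe5f7bd0911d688340f3c6fffe3f0778e7f3fffffffffffffffffffffffffffbeffffffffffff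

-- part: DS/Ord/TabA
section
set_option linter.all false
open scoped Cfsg.Agent.FastGrp

-- part: DS/Ord/Irr
section
/-!
# Order recursion for derived lengths: irreducible modules (helper57)

`LinLt n q k N e`: a solvable group acting irreducibly on a module of order `q ^ j`, `j ≤ k`, with image of order
`< n` dividing `N`, has its `e`-th derived subgroup acting trivially.
-/

set_option autoImplicit false
set_option linter.style.haveILetI false
set_option linter.unusedSectionVars false

namespace Cfsg.Agent.DS.Ord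

open Subgroup Cfsg.Agent.H511.Wt
open scoped Pointwise commutatorElement

/-- the bound for irreducible groups with image of order `< n` -/
def LinLt (n q k N e : ℕ) : Prop :=
  ∀ (G V : Type) [Group G] [Finite G] [Group.IsSolvable G] [AddCommGroup V] [Finite V] [DistribMulAction G V],
    Irr G V → ∀ j, j ≤ k → Nat.card V = q ^ j → Nat.card (Im G V) < n → Nat.card (Im G V) ∣ N → DL G V e

theorem LinLt.mono {n q k N e n' k' N' e' : ℕ} (h : LinLt n q k N e) (hn : n' ≤ n) (hk : k' ≤ k) (hN : N' ∣ N)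
    (he : e ≤ e') : LinLt n' q k' N' e' := by
  intro G V _ _ _ _ _ _ hirr j hj hc h1 h2
  exact (h G V hirr j (hj.trans hk) hc (h1.trans_le hn) (h2.trans hN)).mono he

theorem linLt_zero (n q N e : ℕ) : LinLt n q 0 N e := by
  intro G V _ _ _ _ _ _ hirr j hj hc _ _
  exfalso
  have hnt := hirr.nt
  have h1 : 1 < Nat.card V := Finite.one_lt_card
  obtain rfl : j = 0 := by omega
  rw [pow_zero] at hc
  omega

section basic

variable {G V : Type*} [Group G] [AddCommGroup V] [Finite V] [DistribMulAction G V]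

theorem exp_pos (hirr : Irr G V) {q j : ℕ} (hc : Nat.card V = q ^ j) : 1 ≤ j := by
  have hnt := hirr.nt
  have h1 : 1 < Nat.card V := Finite.one_lt_card
  by_contra h
  obtain rfl : j = 0 := by omega
  rw [pow_zero] at hc
  omega

/-- normal `q`-subgroups act trivially on irreducible modules in characteristic `q` -/
theorem irr_pcore [Finite G] (hirr : Irr G V) {q j : ℕ} (hq : q.Prime) (hc : Nat.card V = q ^ j) (R : Subgroup G)
    [hR : R.Normal] (hp : IsPGroup q R) : ∀ g ∈ R, ∀ x : V, g • x = x := by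
  haveI : Fact q.Prime := ⟨hq⟩
  let U : AddSubgroup V :=
    { carrier := {x | ∀ g ∈ R, g • x = x}
      add_mem' := fun {a b} ha hb g hg => by rw [smul_add, ha g hg, hb g hg]
      zero_mem' := fun g _ => smul_zero g
      neg_mem' := fun {a} ha g hg => by rw [smul_neg, ha g hg] }
  have hU : ∀ h : G, ∀ x ∈ U, h • x ∈ U := by
    intro h x hx g hg
    have h1 : h⁻¹ * g * h⁻¹⁻¹ ∈ R := hR.conj_mem g hg h⁻¹
    have h2 := hx _ h1
    rw [inv_inv, mul_smul, mul_smul, inv_smul_eq_iff] at h2
    exact h2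
  rcases hirr.irr U hU with h | h
  · exfalso
    have h1 : q ∣ Nat.card V := by
      rw [hc]
      exact dvd_pow_self q (by have := exp_pos hirr hc; omega)
    obtain ⟨b, hb, hne⟩ := hp.exists_fixed_point_of_prime_dvd_card_of_fixed_point V h1 (a := 0)
      (fun g => smul_zero g)
    have h2 : b ∈ U := fun g hg => hb ⟨g, hg⟩
    rw [h, AddSubgroup.mem_bot] at h2
    exact hne h2.symm
  · intro g hg x
    have h2 : x ∈ U := by rw [h]; exact AddSubgroup.mem_top x
    exact h2 g hg

end basic

/-- the product of the first `n` factors of the order of `GL(k, q)` -/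
def glAux (q k : ℕ) : ℕ → ℕ
  | 0 => 1
  | i + 1 => glAux q k i * (q ^ k - q ^ i)

/-- the order of `GL(k, q)` -/
def glN (q k : ℕ) : ℕ := glAux q k k

theorem glAux_eq (q k n : ℕ) : glAux q k n = ∏ i ∈ Finset.range n, (q ^ k - q ^ i) := by
  induction n with
  | zero => rfl
  | succ n ih => rw [Finset.prod_range_succ, ← ih]; rfl

theorem card_dvd_gl {G V : Type*} [Group G] [AddCommGroup V] [Finite V] [DistribMulAction G V]
    (hf : ∀ g : G, (∀ x : V, g • x = x) → g = 1) {q j : ℕ} (hq : q.Prime) (hpx : ∀ x : V, q • x = 0)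
    (hc : Nat.card V = q ^ j) : Nat.card G ∣ glN q j := by
  classical
  haveI : Fact q.Prime := ⟨hq⟩
  obtain ⟨inst⟩ : Nonempty (Module (ZMod q) V) := ⟨AddCommGroup.zmodModule hpx⟩
  haveI : Module.Finite (ZMod q) V := Module.Finite.of_finite
  have h1 := Module.natCard_eq_pow_finrank (K := ZMod q) (V := V)
  rw [Nat.card_zmod, hc] at h1
  have h2 : Module.finrank (ZMod q) V = j := (Nat.pow_right_injective hq.two_le h1).symm
  let b := Module.finBasisOfFinrankEq (ZMod q) V h2
  let φ : G →* Module.End (ZMod q) V :=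
    { toFun := fun g => (DistribSMul.toAddMonoidHom V g).toZModLinearMap q
      map_one' := LinearMap.ext fun x => one_smul G x
      map_mul' := fun g h => LinearMap.ext fun x => mul_smul g h x }
  let ψ : G →* Matrix (Fin j) (Fin j) (ZMod q) := (LinearMap.toMatrixAlgEquiv b).toMulEquiv.toMonoidHom.comp φ
  have hinj : Function.Injective ψ.toHomUnits := by
    rw [injective_iff_map_eq_one]
    intro g hg
    apply hf
    intro x
    have h3 : ψ g = 1 := congrArg Units.val hg
    have h4 : φ g = 1 := by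
      apply (LinearMap.toMatrixAlgEquiv b).injective
      rw [map_one]
      exact h3
    exact congrArg (fun f : Module.End (ZMod q) V => f x) h4
  have h5 := Subgroup.card_dvd_of_injective _ hinj
  have h6 := Matrix.card_GL_field (𝔽 := ZMod q) j
  rw [ZMod.card, Fin.prod_univ_eq_prod_range (fun i => q ^ j - q ^ i) j, ← glAux_eq] at h6
  rw [glN, ← h6]
  exact h5

theorem card_im_dvd_gl {G V : Type*} [Group G] [AddCommGroup V] [Finite V] [DistribMulAction G V]
    (hirr : Irr G V) {q j : ℕ} (hq : q.Prime) (hc : Nat.card V = q ^ j) : Nat.card (Im G V) ∣ glN q j := by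
  obtain ⟨p, hp, hpx⟩ := hirr.exists_prime
  have hnt := hirr.nt
  obtain ⟨x, hx⟩ := exists_ne (0 : V)
  haveI : Fact p.Prime := ⟨hp⟩
  have h1 : addOrderOf x = p := addOrderOf_eq_prime (hpx x) hx
  have h2 : p ∣ q ^ j := by
    rw [← hc, ← h1]
    exact addOrderOf_dvd_natCard x
  have h3 : p = q := (Nat.prime_dvd_prime_iff_eq hp hq).1 (hp.dvd_of_dvd_pow h2)
  subst h3
  exact card_dvd_gl range_faithful hq hpx hc

theorem index_mul_dvd {G : Type*} [Group G] {H : Subgroup G} {t N : ℕ} (h1 : t ∣ Nat.card H) (h2 : Nat.card G ∣ N) :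
    H.index * t ∣ N := by
  refine dvd_trans ?_ h2
  rw [← H.index_mul_card]
  exact Nat.mul_dvd_mul_left _ h1

theorem dvd_div_of {a t N : ℕ} (ht : 0 < t) (h : a * t ∣ N) : a ∣ N / t := by
  obtain ⟨c, rfl⟩ := h
  refine ⟨c, ?_⟩
  rw [mul_assoc, mul_comm t c, ← mul_assoc, Nat.mul_div_cancel _ ht]

theorem index_lt_card {G : Type*} [Group G] [Finite G] {H : Subgroup G} (h : H ≠ ⊥) : H.index < Nat.card G := by
  have h1 : 1 < Nat.card H := (Subgroup.one_lt_card_iff_ne_bot H).2 h
  have h2 : 0 < H.index := Nat.pos_of_ne_zero index_ne_zero_of_finite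
  rw [← H.index_mul_card]
  nlinarith

/-- **Clifford theory with orders.** -/
theorem clif (G V : Type) [Group G] [Finite G] [Group.IsSolvable G] [AddCommGroup V] [Finite V]
    [DistribMulAction G V] (hirr : Irr G V) (hf : ∀ g : G, (∀ x : V, g • x = x) → g = 1) {q j N e : ℕ}
    (hq : q.Prime) (hc : Nat.card V = q ^ j) (hN : Nat.card G ∣ N) (h2 : 2 ≤ e)
    (himp : ∀ t r c, r.Prime → t = r ^ c → 2 ≤ t → t ∣ j → t ∣ N →
      ∃ a b, b + 1 + a ≤ e ∧ LinLt (Nat.card G) q (j / t) (N / t) a ∧ LinLt (Nat.card G) r c (N / t) b)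
    (hqp : ∀ f m r i, r.Prime → f * m = j → r ∣ m → r ∣ q ^ f - 1 → 1 ≤ i → r ^ i ≤ m → r ^ (2 * i + 1) ∣ N →
      3 ≤ e ∧ LinLt (Nat.card G) r (2 * i) (N / r ^ (2 * i + 1)) (e - 2)) : DL G V e := by
  have hnt := hirr.nt
  rcases exists_qp G V hirr hf with h | ⟨K, i1, i2, i3, ⟨S⟩⟩
  · obtain ⟨M, W, hM, h1, h2, h3⟩ := h
    have D : Imp M W := ⟨h1, h2, h3⟩
    letI := resAct M (W ((1 : G) : _ ⧸ M)) D.res_mem
    have h4 := D.irr_res hirr
    have h5 : M.index ≠ 0 := index_ne_zero_of_finite
    have h6 : M.index ≠ 1 := by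
      rw [Ne, index_eq_one]
      exact hM.1
    have hcV := D.card_V
    rw [hc] at hcV
    obtain ⟨i, hi, hij⟩ := pow_eq_prime_pow hq h5 hcV.symm
    obtain ⟨T, hT, t1, t2, t3, t4, t5⟩ := coatom_struct hM
    obtain ⟨X, j1, j2, j3, hXirr, hXc, hX⟩ := exists_mod M.normalCore T t1 t2 t3
    obtain ⟨r, c, hr, _, hrc⟩ := (isPrimePow_nat_iff _).1 hXirr.isPrimePow
    rw [hXc, t4] at hrc
    have htN : M.index ∣ N := M.index_dvd_card.trans hN
    obtain ⟨a, b, hab, ha, hb⟩ := himp M.index r c hr hrc.symm (by omega) ⟨i, by rw [← hij, mul_comm]⟩ htN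
    have hMc : Nat.card M * M.index = Nat.card G := M.card_mul_index
    have hMp : 0 < Nat.card M := Nat.card_pos
    have him : Nat.card (Im M (W ((1 : G) : _ ⧸ M))) ∣ Nat.card M :=
      Subgroup.card_dvd_of_surjective _ toIm_surjective
    have ha' := ha M _ h4 i (by rw [← hij, Nat.mul_div_cancel _ (by omega)]) hi
      (lt_of_le_of_lt (Nat.le_of_dvd hMp him) (by rw [← hMc]; exact (Nat.lt_mul_iff_one_lt_right hMp).2 (by omega)))
      (him.trans (dvd_div_of (by omega) (by rw [hMc]; exact hN)))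
    have hTi : Nat.card (Im G X) = T.index := by rw [card_im hX, t5]
    have hb' := hb G X hXirr c le_rfl (by rw [hXc, t4, hrc])
      (by rw [hTi]; exact index_lt_card (ne_bot_of_gt t1))
      (by
        rw [hTi]
        refine dvd_div_of (by omega) (index_mul_dvd ?_ hN)
        rw [← t4]
        exact relIndex_dvd_card _ _)
    rw [DL.iff_le hX, t5] at hb'
    exact (D.dl ha' (dser_add_le (b := 1) hb' t3)).mono hab
  · have hqm : Nat.card K ^ Module.finrank K V = q ^ j := by rw [← hc]; exact QP.card_V_eq.symm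
    have hm0 : 1 ≤ Module.finrank K V := Module.finrank_pos
    obtain ⟨f, hKf, hfm⟩ := pow_eq_prime_pow hq (by omega) hqm
    have key : ∀ N' ∈ S.Mn, 3 ≤ e ∧ dser (⊤ : Subgroup G) (e - 2) ≤ cenMod S.U N' := by
      intro N' hN'
      obtain ⟨X, j1, j2, j3, hXirr, hXc, hX⟩ := S.mn_mod hN'
      obtain ⟨r, c, hr, hc0, hrc⟩ := (isPrimePow_nat_iff _).1 hXirr.isPrimePow
      obtain ⟨g, hg⟩ := S.mn_sq hN'
      obtain ⟨i, rfl, hic⟩ := pow_eq_prime_pow (w := g) (k := 2) (a := c) hr (by norm_num) (by rw [← hg, hrc, hXc])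
      have hrel := S.relIndex_mn hN'
      have hrs : r ^ c ∣ S.s := by rw [hrc, hXc]; exact hrel.1
      obtain ⟨p1, p2⟩ := S.prime_dvd hr ((dvd_pow_self r (by omega)).trans hrs)
      have hle : r ^ i ≤ Module.finrank K V := by
        have h7 : (r ^ i) ^ 2 ≤ Module.finrank K V ^ 2 := by
          rw [← hg]
          exact (Nat.le_of_dvd S.s_pos hrel.1).trans S.s_le'
        exact (Nat.pow_le_pow_iff_left (by norm_num)).1 h7
      have hE : r ^ (2 * i + 1) ∣ Nat.card S.E := by
        have h7 := card_mul_index (S.U.subgroupOf S.E)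
        rw [Nat.card_congr (subgroupOfEquivOfLe S.U_le_E).toEquiv] at h7
        rw [← h7, pow_succ', mul_comm 2 i, hic]
        exact Nat.mul_dvd_mul p1 hrs
      have hEle : S.E ≤ cenMod S.U N' :=
        le_cenMod_iff.2 ((commutator_mono le_rfl (S.Mn_le_E hN')).trans S.E_comm)
      have hE' : r ^ (2 * i + 1) ∣ Nat.card (cenMod S.U N') := hE.trans (card_dvd_of_le hEle)
      have hd := index_mul_dvd hE' hN
      obtain ⟨h3, hL⟩ := hqp f (Module.finrank K V) r i hr hfm p2 (by rw [← hKf]; exact p1.trans S.card_U_dvd)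
        (by omega) hle ((dvd_mul_left _ _).trans hd)
      refine ⟨h3, (DL.iff_le hX).1 (hL G X hXirr c (by omega) hrc.symm ?_ ?_)⟩
      · rw [card_im hX]
        exact index_lt_card (ne_bot_of_gt (lt_of_lt_of_le hN'.2.1 ((S.Mn_le_E hN').trans hEle)))
      · rw [card_im hX]
        exact dvd_div_of (pow_pos hr.pos _) hd
    have fin : ∀ d, dser (⊤ : Subgroup G) d = ⊥ → d ≤ e → DL G V e := by
      intro d h1 hd g hg x
      have h3 := dser_anti (⊤ : Subgroup G) hd hg
      rw [h1, mem_bot] at h3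
      rw [h3, one_smul]
    by_cases h3 : 3 ≤ e
    · exact fin _ (S.dser_top_eq_bot (S.dser_le_E (k := e - 2) (by omega) fun N' hN' => (key N' hN').2)) (by omega)
    · refine fin 2 (S.dser_two_of_s_one ?_) h2
      rw [QP.s, relIndex_eq_one]
      exact S.E_le le_rfl fun N' hN' => absurd (key N' hN').1 h3

end Cfsg.Agent.DS.Ord
end

-- part: DS/Ord/Chief
section
/-!
# Order recursion for derived lengths: chief factors (helper57)

`ChB X q k N e`: the `e`-th derived subgroup of `X` centralizes every abelian chief factor of `X` of order `q ^ j`,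
`j ≤ k`, whose automizer has order dividing `N`.
-/

set_option autoImplicit false
set_option linter.style.haveILetI false
set_option linter.unusedSectionVars false

namespace Cfsg.Agent.DS.Ord

open Subgroup Cfsg.Agent.H511.Wt
open scoped Pointwise commutatorElement

/-- the bound for the chief factors of `X` -/
def ChB (X : Type) [Group X] (q k N e : ℕ) : Prop :=
  ∀ (C T : Subgroup X) [C.Normal] [T.Normal], C < T → (∀ L : Subgroup X, L.Normal → C < L → L ≤ T → L = T) →
    ⁅T, T⁆ ≤ C → ∀ j, j ≤ k → C.relIndex T = q ^ j → (cenMod C T).index ∣ N →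
      dser (⊤ : Subgroup X) e ≤ cenMod C T

theorem ChB.mono {X : Type} [Group X] {q k N e k' N' e' : ℕ} (h : ChB X q k N e) (hk : k' ≤ k) (hN : N' ∣ N)
    (he : e ≤ e') : ChB X q k' N' e' := by
  intro C T _ _ h1 h2 h3 j hj h4 h5
  exact (dser_anti _ he).trans (h C T h1 h2 h3 j (hj.trans hk) h4 (h5.trans hN))

theorem cenMod_comap {X Y : Type} [Group X] [Group Y] {f : X →* Y} (hf : Function.Surjective f) (C T : Subgroup Y)
    [C.Normal] : cenMod (C.comap f) (T.comap f) = (cenMod C T).comap f := by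
  ext x
  rw [mem_comap, mem_cenMod, mem_cenMod]
  constructor
  · intro h y hy
    obtain ⟨y, rfl⟩ := hf y
    have := h y hy
    rwa [mem_comap, map_commutatorElement] at this
  · intro h y hy
    rw [mem_comap, map_commutatorElement]
    exact h _ hy

theorem ChB.of_surj {X Y : Type} [Group X] [Group Y] {f : X →* Y} (hf : Function.Surjective f) {q k N e : ℕ}
    (h : ChB X q k N e) : ChB Y q k N e := by
  intro C T _ _ h1 h2 h3 j hj h4 h5
  have h6 := h (C.comap f) (T.comap f) ((comap_lt_comap_of_surjective hf).2 h1) (by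
      intro L hL hCL hLT
      have hk : f.ker ≤ L := (ker_le_comap f C).trans hCL.le
      have h7 : L.map f = T := by
        refine h2 _ (hL.map f hf) (lt_of_le_of_ne ?_ ?_) (map_le_iff_le_comap.2 hLT)
        · rw [← map_comap_eq_self_of_surjective hf C]
          exact map_mono hCL.le
        · intro h8
          apply hCL.not_ge
          rw [h8]
          exact le_comap_map f L
      rw [← h7, comap_map_eq_self hk]) (by
      rw [← map_le_iff_le_comap, map_commutator, map_comap_eq_self_of_surjective hf]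
      exact h3) j hj (by rw [relIndex_comap, map_comap_eq_self_of_surjective hf, h4])
    (by rw [cenMod_comap hf, index_comap_of_surjective _ hf]; exact h5)
  rw [cenMod_comap hf, ← map_le_iff_le_comap, map_dser, ← MonoidHom.range_eq_map,
    f.range_eq_top_of_surjective hf] at h6
  exact h6

theorem chB_of_lin {X : Type} [Group X] [Finite X] [Group.IsSolvable X] {n q k N e : ℕ} (h : LinLt n q k N e)
    (hn : Nat.card X ≤ n) : ChB X q k N e := by
  intro C T _ _ h1 h2 h3 j hj h4 h5
  obtain ⟨V, j1, j2, j3, hirr, hc, hV⟩ := exists_mod C T h1 h2 h3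
  refine (DL.iff_le hV).1 (h X V hirr j hj (hc.trans h4) ?_ ?_)
  · rw [card_im hV]
    exact lt_of_lt_of_le (index_lt_card (ne_bot_of_gt (lt_of_lt_of_le h1 (le_cenMod_iff.2 h3)))) hn
  · rwa [card_im hV]

section chain

variable {Y : Type} [Group Y] [Finite Y] [Group.IsSolvable Y] {q : ℕ} [hq : Fact q.Prime]

/-- coprime action on a chain of chief factors -/
theorem comm_le_of_chief {A F U : Subgroup Y} [F.Normal] (hU : IsPGroup q U) (hA : (Nat.card A).Coprime q)
    (h : ∀ (C T : Subgroup Y) [C.Normal] [T.Normal], F ≤ C → C < T → T ≤ U →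
      (∀ L : Subgroup Y, L.Normal → C < L → L ≤ T → L = T) → A ≤ cenMod C T) (n : ℕ) :
    ∀ T : Subgroup Y, T.Normal → F ≤ T → T ≤ U → Nat.card T ≤ n → ⁅T, A⁆ ≤ F := by
  induction n with
  | zero =>
    intro T _ _ _ h0
    have : 0 < Nat.card T := Nat.card_pos
    omega
  | succ n ih =>
    intro T hT hFT hTU hn
    rcases hFT.eq_or_lt with rfl | hlt
    · exact commutator_le_left _ _
    obtain ⟨C, hC⟩ := (Set.toFinite {C : Subgroup Y | C.Normal ∧ F ≤ C ∧ C < T}).exists_maximal
      ⟨F, inferInstance, le_rfl, hlt⟩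
    obtain ⟨hCn, hFC, hCT⟩ := hC.prop
    have h1 := h C T hFC hCT hTU (by
      intro L hL h1 h2
      by_contra hne
      exact h1.not_ge (hC.le_of_ge ⟨hL, hFC.trans h1.le, lt_of_le_of_ne h2 hne⟩ h1.le))
    rw [le_cenMod_iff, commutator_comm] at h1
    have h2 : Nat.card C < Nat.card T := by
      refine lt_of_le_of_ne (card_le_of_le hCT.le) fun h3 => hCT.ne ?_
      exact eq_of_le_of_card_ge hCT.le h3.ge
    have h3 := ih C hCn hFC (hCT.le.trans hTU) (by omega)
    obtain ⟨t, ht⟩ := IsPGroup.iff_card.1 (hU.to_le hTU)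
    have h4 := S0027.result A T (by rw [normalizer_eq_top]; exact le_top) (by rw [ht]; exact hA.pow_right t)
      (Or.inl inferInstance)
    rw [← h4]
    exact (commutator_mono h1 le_rfl).trans h3

theorem comm_le_phi_of {P R U A : Subgroup Y} [P.Normal] [R.Normal] [U.Normal] (hP : IsPGroup q P) {a N u k e : ℕ}
    (ha : Nat.card P = q ^ a) (hN : Nat.card Y ∣ N) (hRP : R ≤ P) (h1 : phi R ≤ U) (h2 : U ≤ R)
    (hu : (phi R).relIndex U = q ^ u) (huk : u ≤ k) (hch : ChB Y q k (N / q ^ a) e)
    (hA : (Nat.card A).Coprime q) (hAe : A ≤ dser (⊤ : Subgroup Y) e) : ⁅U, A⁆ ≤ phi R := by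
  haveI := phi_normal R
  have hR : IsPGroup q R := hP.to_le hRP
  refine comm_le_of_chief (hR.to_le h2) hA ?_ _ U inferInstance h1 le_rfl le_rfl
  intro C T _ _ hFC hCT hTU hmin
  have hcomm : ⁅T, T⁆ ≤ C :=
    ((commutator_mono (hTU.trans h2) (hTU.trans h2)).trans (comm_le_phi hR)).trans hFC
  obtain ⟨j, hj⟩ := relIndex_pow (C := C) (hR.to_le (hTU.trans h2))
  have hju : j ≤ u := by
    rw [← Nat.pow_dvd_pow_iff_le_right hq.out.one_lt, ← hj, ← hu,
      ← relIndex_mul_relIndex (phi R) T U (hFC.trans hCT.le) hTU]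
    exact (relIndex_dvd_of_le_left T hFC).trans (dvd_mul_right _ _)
  refine hAe.trans (hch C T hCT hmin hcomm j (hju.trans huk) hj ?_)
  obtain ⟨V, j1, j2, j3, hirr, hc, hV⟩ := exists_mod C T hCT hmin hcomm
  have h3 : P ≤ cenMod C T := fun g hg => (hV g).1 (irr_pcore hirr hq.out (hc.trans hj) P hP g hg)
  refine dvd_div_of (pow_pos hq.out.pos a) (index_mul_dvd ?_ hN)
  rw [← ha]
  exact card_dvd_of_le h3

theorem cent_of_comm {R A : Subgroup Y} [R.Normal] (hR : IsPGroup q R) (hA : (Nat.card A).Coprime q)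
    (h : ⁅R, A⁆ ≤ phi R) : A ≤ centralizer (R : Set Y) := by
  obtain ⟨t, ht⟩ := IsPGroup.iff_card.1 (hR.to_subgroup (frattini R))
  refine S0029.result A R (by rw [normalizer_eq_top]; exact le_top) (by rw [ht]; exact hA.pow_right t) ?_
  intro a ha k hk
  rw [commutator_comm] at h
  exact h (commutator_mem_commutator ha hk)

/-- the step for a `q`-constrained group -/
theorem dser_le_of_constrained {P : Subgroup Y} [P.Normal] (hP : IsPGroup q P)
    (hmax : ∀ L : Subgroup Y, L.Normal → IsPGroup q L → L ≤ P) (hcen : centralizer (P : Set Y) ≤ P)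
    {a k d N e : ℕ} (ha : Nat.card P = q ^ a) (hk : (phi P).relIndex P = q ^ k) (hd : dser P d ≠ ⊥)
    (hd' : dser P (d + 1) = ⊥) (hN : Nat.card Y ∣ N)
    (h : ChB Y q k (N / q ^ a) e ∨ (2 ≤ d ∧ ChB Y q (min (a + 2 - (2 ^ d + 2 * d)) k) (N / q ^ a) e ∧
      ChB Y q (a + 5 - (k + 2 ^ d + d)) (N / q ^ a) e)) : dser (⊤ : Subgroup Y) e ≤ P := by
  haveI := phi_normal P
  have key : ∀ A : Subgroup Y, (Nat.card A).Coprime q → A ≤ dser (⊤ : Subgroup Y) e → A ≤ P := by
    intro A hA hAe
    refine (cent_of_comm hP hA ?_).trans hcen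
    rcases h with h | ⟨h2, h3, h4⟩
    · exact comm_le_phi_of hP ha hN le_rfl (phi_le P) le_rfl hk le_rfl h hA hAe
    · have hP1 : IsPGroup q (dser P 1) := hP.to_le (dser_le P 1)
      obtain ⟨k1, hk1⟩ := relIndex_pow (C := phi (dser P 1)) hP1
      have f1 := feas_one hP ha hk hd h2 hk1
      have c1 : A ≤ centralizer (dser P 1 : Set Y) := cent_of_comm hP1 hA
        (comm_le_phi_of hP ha hN (dser_le P 1) (phi_le _) le_rfl hk1 (by omega) h4 hA hAe)
      haveI : (centralizer (dser P 1 : Set Y)).Normal := inferInstance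
      set U := (centralizer (dser P 1 : Set Y) ⊓ P) ⊔ phi P with hU
      have hUP : U ≤ P := sup_le inf_le_right (phi_le P)
      obtain ⟨u, hu⟩ := relIndex_pow (C := phi P) (hP.to_le hUP)
      have f2 := feas_cent hP ha hu hd hd' h2
      have f3 : u ≤ k := by
        rw [← Nat.pow_dvd_pow_iff_le_right hq.out.one_lt, ← hk, ← hu,
          ← relIndex_mul_relIndex (phi P) U P le_sup_right hUP]
        exact dvd_mul_right _ _
      have c2 : ⁅U, A⁆ ≤ phi P :=
        comm_le_phi_of hP ha hN le_rfl le_sup_right hUP hu (le_min (by omega) f3) h3 hA hAe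
      have c3 : ⁅P, A⁆ ≤ U := by
        refine le_trans (le_inf ?_ (commutator_le_left _ _)) le_sup_left
        exact (commutator_mono le_rfl c1).trans (commutator_le_right _ _)
      have h5 := S0027.result A P (by rw [normalizer_eq_top]; exact le_top) (by rw [ha]; exact hA.pow_right a)
        (Or.inl inferInstance)
      rw [← h5]
      exact (commutator_mono c3 le_rfl).trans c2
  refine hmax _ inferInstance (IsPGroup.iff_card.2 ⟨_, Nat.eq_prime_pow_of_unique_prime_dvd Nat.card_pos.ne' ?_⟩)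
  intro r hr hrd
  by_contra hne
  haveI : Fact r.Prime := ⟨hr⟩
  obtain ⟨⟨g, hg⟩, hgo⟩ := exists_prime_orderOf_dvd_card' r hrd
  have h1 : orderOf g = r := by rw [← hgo]; exact (Subgroup.orderOf_coe ⟨g, hg⟩)
  have h2 : Nat.card (zpowers g) = r := by rw [Nat.card_zpowers, h1]
  have h3 := key (zpowers g) (by rw [h2]; exact (Nat.coprime_primes hr hq.out).2 hne) (by rwa [zpowers_le])
  have h4 := card_dvd_of_le h3
  rw [h2, ha] at h4
  exact hne ((Nat.prime_dvd_prime_iff_eq hr hq.out).1 (hr.dvd_of_dvd_pow h4))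

end chain

/-- the monolithic quotient -/
theorem exists_constrained (X : Type) [Group X] [Finite X] [Group.IsSolvable X] {p D : ℕ}
    (hp : ∀ M : Subgroup X, M.Normal → IsPGroup p M → M = ⊥) (hD : dser (⊤ : Subgroup X) D ≠ ⊥) :
    ∃ (K : Subgroup X) (_ : K.Normal) (q : ℕ) (P : Subgroup (X ⧸ K)), q.Prime ∧ q ≠ p ∧ P.Normal ∧ IsPGroup q P ∧
      (∀ L : Subgroup (X ⧸ K), L.Normal → IsPGroup q L → L ≤ P) ∧ centralizer (P : Set (X ⧸ K)) ≤ P ∧
      dser (⊤ : Subgroup (X ⧸ K)) D ≠ ⊥ := by
  obtain ⟨M, hM⟩ := (Set.toFinite {M : Subgroup X | M.Normal ∧ M ≠ ⊥ ∧ M ≤ dser ⊤ D}).exists_minimal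
    ⟨_, inferInstance, hD, le_rfl⟩
  obtain ⟨hMn, hMb, hMD⟩ := hM.prop
  have hmin : ∀ L : Subgroup X, L.Normal → L ≤ M → L = ⊥ ∨ L = M := by
    intro L hL hLM
    by_cases h : L = ⊥
    · exact Or.inl h
    · exact Or.inr (le_antisymm hLM (hM.le_of_le ⟨hL, h, hLM.trans hMD⟩ hLM))
  have hcomm : ∀ a ∈ M, ∀ b ∈ M, a * b = b * a := by
    rcases hmin ⁅M, M⁆ inferInstance (commutator_self_le M) with h | h
    · intro a ha b hb
      have h1 := commutator_mem_commutator ha hb
      rwa [h, mem_bot, commutatorElement_eq_one_iff_mul_comm] at h1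
    · exact absurd (eq_bot_of_perfect h.ge) hMb
  obtain ⟨V, j1, j2, j3, hirr, hc, _⟩ := exists_mod0 M hMb hmin hcomm
  obtain ⟨q, c, hq, hc0, hqc⟩ := (isPrimePow_nat_iff _).1 hirr.isPrimePow
  haveI : Fact q.Prime := ⟨hq⟩
  have hMq : IsPGroup q M := IsPGroup.of_card (hc.symm.trans hqc.symm)
  have hqp : q ≠ p := by
    rintro rfl
    exact hMb (hp M hMn hMq)
  obtain ⟨K, hK⟩ := (Set.toFinite {K : Subgroup X | K.Normal ∧ K ⊓ M = ⊥}).exists_maximal
    ⟨⊥, inferInstance, bot_inf_eq M⟩
  obtain ⟨hKn, hKM⟩ := hK.prop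
  set π := QuotientGroup.mk' K with hπ
  have hπs : Function.Surjective π := QuotientGroup.mk'_surjective K
  have hMb' : M.map π ≠ ⊥ := by
    rw [Ne, Subgroup.map_eq_bot_iff, QuotientGroup.ker_mk']
    intro h
    exact hMb (by rw [← hKM, inf_eq_right.2 h])
  have hmono : ∀ L : Subgroup (X ⧸ K), L.Normal → L ≠ ⊥ → M.map π ≤ L := by
    intro L hL hLb
    have h1 : K ≤ L.comap π := by
      conv_lhs => rw [← QuotientGroup.ker_mk' K]
      exact ker_le_comap π L
    rcases hmin (L.comap π ⊓ M) inferInstance inf_le_right with h | h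
    · exfalso
      apply hLb
      have h2 : L.comap π ≤ K := hK.le_of_ge ⟨inferInstance, h⟩ h1
      rw [← map_comap_eq_self_of_surjective hπs L, Subgroup.map_eq_bot_iff, QuotientGroup.ker_mk']
      exact h2
    · rw [map_le_iff_le_comap, ← h]
      exact inf_le_left
  obtain ⟨P, hP⟩ := (Set.toFinite {P : Subgroup (X ⧸ K) | P.Normal ∧ IsPGroup q P}).exists_maximal
    ⟨⊥, inferInstance, IsPGroup.of_bot⟩
  obtain ⟨hPn, hPq⟩ := hP.prop
  have hmax : ∀ L : Subgroup (X ⧸ K), L.Normal → IsPGroup q L → L ≤ P := by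
    intro L hL hLq
    exact le_sup_left.trans (hP.le_of_ge ⟨inferInstance, hLq.to_sup_of_normal_right hPq⟩ le_sup_right)
  have hF : fittingSubgroup (X ⧸ K) ≤ P := by
    rw [S0009.result]
    refine iSup_le fun r => sSup_le ?_
    rintro L ⟨hL, hLr⟩
    by_cases hr : (r : ℕ) = q
    · exact hmax L hL (hr ▸ hLr)
    by_cases hLb : L = ⊥
    · rw [hLb]
      exact bot_le
    exfalso
    haveI : Fact (r : ℕ).Prime := ⟨r.2⟩
    have h1 := IsPGroup.disjoint_of_ne (r : ℕ) q hr L (M.map π) hLr (hMq.map π)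
    exact hMb' (h1.eq_bot_of_ge (hmono L hL hLb))
  have hPF : P ≤ fittingSubgroup (X ⧸ K) := le_sSup ⟨hPn, hPq.isNilpotent⟩
  refine ⟨K, hKn, q, P, hq, hqp, hPn, hPq, hmax, ?_, ?_⟩
  · rw [le_antisymm hPF hF]
    exact S0044.result
  · intro h
    apply hMb'
    rw [eq_bot_iff, ← h]
    refine (map_mono hMD).trans ?_
    rw [map_dser]
    exact dser_mono le_top D

/-- **The recursion over the Fitting subgroup of a monolithic quotient.** -/
theorem top_rule (X : Type) [Group X] [Finite X] [Group.IsSolvable X] {p N D : ℕ}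
    (hp : ∀ M : Subgroup X, M.Normal → IsPGroup p M → M = ⊥) (hN : Nat.card X ∣ N)
    (h : ∀ q a k d, q.Prime → q ≠ p → q ^ a ∣ N → 1 ≤ k → k ≤ a → 2 ^ d + 2 * d ≤ a + 2 → 2 ^ d + d + k ≤ a + 2 →
      d + 1 ≤ D ∧ (ChB X q k (N / q ^ a) (D - (d + 1)) ∨
        (2 ≤ d ∧ ChB X q (min (a + 2 - (2 ^ d + 2 * d)) k) (N / q ^ a) (D - (d + 1)) ∧
          ChB X q (a + 5 - (k + 2 ^ d + d)) (N / q ^ a) (D - (d + 1))))) :
    derivedSeries X D = ⊥ := by
  classical
  rw [← dser_top]
  by_contra hD
  obtain ⟨K, hKn, q, P, hq, hqp, hPn, hPq, hmax, hcen, hD'⟩ := exists_constrained X hp hD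
  haveI : Fact q.Prime := ⟨hq⟩
  have hπs : Function.Surjective (QuotientGroup.mk' K) := QuotientGroup.mk'_surjective K
  have hN' : Nat.card (X ⧸ K) ∣ N := (Subgroup.card_dvd_of_surjective _ hπs).trans hN
  have hPb : P ≠ ⊥ := by
    rintro rfl
    apply hD'
    rw [eq_bot_iff]
    refine (dser_le _ D).trans (le_trans ?_ hcen)
    intro x _
    rw [mem_centralizer_iff]
    intro y hy
    rw [SetLike.mem_coe, mem_bot] at hy
    rw [hy, one_mul, mul_one]
  obtain ⟨a, ha⟩ := IsPGroup.iff_card.1 hPq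
  obtain ⟨k, hk⟩ := relIndex_pow (C := phi P) hPq
  have hex := exists_dser_eq_bot P
  obtain ⟨d, hd⟩ : ∃ d, Nat.find hex = d + 1 := by
    refine Nat.exists_eq_succ_of_ne_zero fun h0 => hPb ?_
    have := Nat.find_spec hex
    rwa [h0] at this
  have hd1 : dser P d ≠ ⊥ := Nat.find_min hex (by omega)
  have hd2 : dser P (d + 1) = ⊥ := hd ▸ Nat.find_spec hex
  obtain ⟨f1, f2, f3⟩ := feas hPq ha hk hd1 hd2
  have hk1 : 1 ≤ k := by
    by_contra h0
    obtain rfl : k = 0 := by omega
    rw [pow_zero, relIndex_eq_one] at hk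
    have h1 : frattini P = ⊤ := by
      rw [eq_top_iff]
      intro x _
      obtain ⟨y, hy, hyx⟩ := hk x.2
      have : y = x := Subtype.ext hyx
      rwa [← this]
    have h2 : (⊥ : Subgroup P) = ⊤ := frattini_nongenerating (by rw [h1, sup_top_eq])
    apply hPb
    rw [eq_bot_iff]
    intro x hx
    have h3 : (⟨x, hx⟩ : P) ∈ (⊥ : Subgroup P) := by rw [h2]; exact mem_top _
    exact congrArg Subtype.val (mem_bot.1 h3)
  obtain ⟨g1, g2⟩ := h q a k d hq hqp (by rw [← ha]; exact (card_subgroup_dvd_card P).trans hN') hk1 f1 f2 f3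
  have h1 := dser_le_of_constrained hPq hmax hcen ha hk hd1 hd2 hN' (e := D - (d + 1))
    (g2.imp (ChB.of_surj hπs) fun h => ⟨h.1, h.2.1.of_surj hπs, h.2.2.of_surj hπs⟩)
  apply hD'
  rw [eq_bot_iff, ← Nat.sub_add_cancel g1]
  exact dser_add_le h1 hd2.le

end Cfsg.Agent.DS.Ord
end

-- part: DS/Ord/Calc
section
/-!
# Order recursion for derived lengths: the checker (helper57)

A table of bounds for irreducible groups (`LTab`: for each prime `q` a list of `(k, N, e)`) and of bounds for solvable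
groups without normal `p`-subgroups (`STab`: a list of `(p, N, d)`) is valid as soon as each entry follows from the
table by one step of the recursion (`chk`); the proof is by induction on the order of the group.
`N = 0` in `LTab` means no condition on the order.
-/

set_option autoImplicit false
set_option linter.style.haveILetI false
set_option linter.unusedSectionVars false

namespace Cfsg.Agent.DS.Ord

open Subgroup Cfsg.Agent.H511.Wt

/-- `f i` for all `i < n` -/
def allLt (f : ℕ → Bool) : ℕ → Bool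
  | 0 => true
  | n + 1 => f n && allLt f n

theorem allLt_spec {f : ℕ → Bool} {n : ℕ} (h : allLt f n = true) {i : ℕ} (hi : i < n) : f i = true := by
  induction n with
  | zero => omega
  | succ n ih =>
    have h1 : (f n && allLt f n) = true := h
    rw [Bool.and_eq_true] at h1
    rcases (Nat.lt_succ_iff.1 hi).eq_or_lt with rfl | h2
    · exact h1.1
    · exact ih h1.2 h2

/-- evaluate `x` before passing it on -/
def force (x : ℕ) (f : ℕ → Bool) : Bool :=
  match x with
  | 0 => f 0
  | n + 1 => f (n + 1)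

theorem force_eq (x : ℕ) (f : ℕ → Bool) : force x f = f x := by
  cases x <;> rfl

/-- `a ∣ b` -/
def dv (a b : ℕ) : Bool := Nat.beq (b % a) 0

theorem dv_iff {a b : ℕ} : dv a b = true ↔ a ∣ b := by
  rw [dv, Nat.beq_eq, Nat.dvd_iff_mod_eq_zero]

/-- the primes below `100` -/
def PR : List ℕ := [2, 3, 5, 7, 11, 13, 17, 19, 23, 29, 31, 37, 41, 43, 47, 53, 59, 61, 67, 71, 73, 79, 83, 89, 97]

theorem mem_PR {r : ℕ} (hr : r.Prime) (h : r < 100) : r ∈ PR := by
  have key : ∀ r < 100, r ∈ PR ∨ r < 2 ∨ ∃ s < 10, 2 ≤ s ∧ s < r ∧ s ∣ r := by decide +kernel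
  rcases key r h with h1 | h1 | ⟨s, _, h2, h3, h4⟩
  · exact h1
  · exact absurd hr.two_le (by omega)
  · rcases (Nat.dvd_prime hr).1 h4 with h5 | h5 <;> omega

/-- the product of the primes below `100` -/
def PP : ℕ := 2305567963945518424753102147331756070

theorem mem_PR_of_dvd {r N : ℕ} (hr : r.Prime) (hN : N ∣ PP ^ 100) (h : r ∣ N) : r ∈ PR := by
  have h1 : r ∣ PR.prod := by
    have e : PR.prod = PP := by decide +kernel
    rw [e]
    exact hr.dvd_of_dvd_pow (h.trans hN)
  obtain ⟨a, ha, hra⟩ := (hr.prime.dvd_prod_iff).1 h1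
  have key : ∀ a ∈ PR, 0 < a ∧ a < 100 := by decide +kernel
  exact mem_PR hr (lt_of_le_of_lt (Nat.le_of_dvd (key a ha).1 hra) (key a ha).2)

/-- the exponent of `q` in `N` -/
def vq (q : ℕ) : ℕ → ℕ → ℕ
  | 0, _ => 0
  | f + 1, N => bif dv q N then vq q f (N / q) + 1 else 0

/-- one step of the recursion over the Fitting subgroup -/
def stepChk (ok : ℕ → ℕ → ℕ → ℕ → Bool) (N D q v k d : ℕ) : Bool :=
  force (max k (max (2 ^ d + 2 * d - 2) (2 ^ d + d + k - 2))) fun a0 =>
    Nat.blt v a0 || (Nat.ble (d + 1) D && force (D - (d + 1)) fun e =>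
      ok q k (N / q ^ a0) e || (Nat.ble 2 d && allLt (fun a => Nat.blt a a0 || force (N / q ^ a) fun N1 =>
        ok q k N1 e || (ok q (min (a + 2 - (2 ^ d + 2 * d)) k) N1 e && ok q (a + 5 - (k + 2 ^ d + d)) N1 e)) (v + 1)))

/-- the recursion over the Fitting subgroup -/
def solChk (ok : ℕ → ℕ → ℕ → ℕ → Bool) (p N D : ℕ) : Bool :=
  dv N (PP ^ 100) && PR.all fun q => Nat.beq q p || force (vq q 100 N) fun v =>
    Nat.blt v 100 && !(dv (q ^ (v + 1)) N) && allLt (fun k => allLt (fun d => stepChk ok N D q v (k + 1) d) 7) v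

theorem div_pow_dvd {q N a b : ℕ} (hq : 0 < q) (hab : a ≤ b) (h : q ^ b ∣ N) : N / q ^ b ∣ N / q ^ a := by
  refine dvd_div_of (pow_pos hq a) ?_
  conv_rhs => rw [← Nat.div_mul_cancel h]
  exact Nat.mul_dvd_mul_left _ (pow_dvd_pow q hab)

/-- **Soundness of the recursion over the Fitting subgroup**, for any sound source `ok` of bounds for the chief factors
of `X`. -/
theorem sol_of_chk (X : Type) [Group X] [Finite X] [Group.IsSolvable X] {ok : ℕ → ℕ → ℕ → ℕ → Bool}
    (hok : ∀ q k N e, q.Prime → ok q k N e = true → ChB X q k N e) {p N D : ℕ}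
    (hp : ∀ M : Subgroup X, M.Normal → IsPGroup p M → M = ⊥) (hN : Nat.card X ∣ N) (h : solChk ok p N D = true) :
    derivedSeries X D = ⊥ := by
  refine top_rule X hp hN ?_
  intro q a k d hq hqp ha hk1 f1 f2 f3
  rw [solChk, Bool.and_eq_true, dv_iff, List.all_eq_true] at h
  have ha1 : 1 ≤ a := by omega
  have h1 := h.2 q (mem_PR_of_dvd hq h.1 ((dvd_pow_self q (by omega)).trans ha))
  rw [Bool.or_eq_true, Nat.beq_eq, force_eq, Bool.and_eq_true, Bool.and_eq_true, Nat.blt_eq, Bool.not_eq_true',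
    ← Bool.not_eq_true, dv_iff] at h1
  obtain ⟨⟨h2, h3⟩, h4⟩ := h1.resolve_left hqp
  generalize vq q 100 N = v at h2 h3 h4
  have hav : a ≤ v := by
    by_contra hlt
    exact h3 ((pow_dvd_pow q (by omega)).trans ha)
  have hd : d < 7 := by
    by_contra hlt
    have : 2 ^ 7 ≤ 2 ^ d := Nat.pow_le_pow_right (by norm_num) (by omega)
    omega
  obtain ⟨k, rfl⟩ : ∃ k', k = k' + 1 := ⟨k - 1, by omega⟩
  have h5 := allLt_spec (allLt_spec h4 (show k < v by omega)) hd
  rw [stepChk, force_eq, Bool.or_eq_true, Nat.blt_eq, Bool.and_eq_true, Nat.ble_eq, force_eq, Bool.or_eq_true,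
    Bool.and_eq_true, Nat.ble_eq] at h5
  have h6 : max (k + 1) (max (2 ^ d + 2 * d - 2) (2 ^ d + d + (k + 1) - 2)) ≤ a :=
    max_le f1 (max_le (by omega) (by omega))
  generalize max (k + 1) (max (2 ^ d + 2 * d - 2) (2 ^ d + d + (k + 1) - 2)) = a0 at h5 h6
  obtain ⟨h7, h8⟩ := h5.resolve_left (by omega)
  refine ⟨h7, ?_⟩
  rcases h8 with h8 | ⟨h8, h9⟩
  · exact Or.inl ((hok _ _ _ _ hq h8).mono le_rfl (div_pow_dvd hq.pos h6 ha) le_rfl)
  · have h10 := allLt_spec h9 (show a < v + 1 by omega)
    rw [Bool.or_eq_true, Nat.blt_eq, force_eq, Bool.or_eq_true, Bool.and_eq_true] at h10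
    rcases h10.resolve_left (by omega) with h11 | h11
    · exact Or.inl (hok _ _ _ _ hq h11)
    · exact Or.inr ⟨h8, hok _ _ _ _ hq h11.1, hok _ _ _ _ hq h11.2⟩

/-- tables -/
abbrev LTab := List (ℕ × List (ℕ × ℕ × ℕ))

/-- tables -/
abbrev STab := List (ℕ × ℕ × ℕ)

/-- the row of `q` -/
def row (q : ℕ) : LTab → List (ℕ × ℕ × ℕ)
  | [] => []
  | x :: t => bif Nat.beq x.1 q then x.2 else row q t

theorem mem_of_row {q : ℕ} {T : LTab} {y : ℕ × ℕ × ℕ} (h : y ∈ row q T) : ∃ x ∈ T, x.1 = q ∧ y ∈ x.2 := by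
  induction T with
  | nil => exact absurd h List.not_mem_nil
  | cons x t ih =>
    have h1 : y ∈ (bif Nat.beq x.1 q then x.2 else row q t) := h
    cases hb : Nat.beq x.1 q with
    | true =>
      rw [hb, cond_true] at h1
      exact ⟨x, List.mem_cons_self, Nat.eq_of_beq_eq_true hb, h1⟩
    | false =>
      rw [hb, cond_false] at h1
      obtain ⟨z, hz, hz'⟩ := ih h1
      exact ⟨z, List.mem_cons_of_mem _ hz, hz'⟩

/-- the first matching entry -/
def lkL (k N : ℕ) : List (ℕ × ℕ × ℕ) → ℕ
  | [] => 1000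
  | y :: t => bif Nat.ble k y.1 && dv N y.2.1 then y.2.2 else lkL k N t

theorem lkL_spec {k N : ℕ} {L : List (ℕ × ℕ × ℕ)} (h : lkL k N L < 1000) :
    ∃ y ∈ L, k ≤ y.1 ∧ N ∣ y.2.1 ∧ y.2.2 = lkL k N L := by
  induction L with
  | nil => exact absurd h (lt_irrefl _)
  | cons y t ih =>
    have e : lkL k N (y :: t) = bif Nat.ble k y.1 && dv N y.2.1 then y.2.2 else lkL k N t := rfl
    rw [e] at h ⊢
    cases hb : (Nat.ble k y.1 && dv N y.2.1) with
    | true =>
      rw [Bool.and_eq_true, Nat.ble_eq, dv_iff] at hb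
      exact ⟨y, List.mem_cons_self, hb.1, hb.2, rfl⟩
    | false =>
      rw [hb, cond_false] at h
      obtain ⟨z, hz, hz'⟩ := ih h
      exact ⟨z, List.mem_cons_of_mem _ hz, hz'⟩

/-- the bound read off from the table -/
def lk (T : LTab) (q k N : ℕ) : ℕ := bif Nat.beq k 0 then 0 else lkL k N (row q T)

/-- the table as a source of bounds for chief factors -/
def okT (T : LTab) (q k N e : ℕ) : Bool := Nat.blt e 1000 && Nat.ble (lk T q k N) e

/-- an entry of the second table applies -/
def solLk (S : STab) (q N e : ℕ) : Bool :=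
  S.any fun y => Nat.ble y.2.2 e && (Nat.beq y.1 q || Nat.beq y.1 1) && dv N y.2.1

/-- the Clifford step -/
def clifChk (T : LTab) (q j N e : ℕ) : Bool :=
  Nat.ble 2 e && Nat.blt j 100 && PR.all fun r => !(dv r j) ||
    (allLt (fun c => force (r ^ (c + 1)) fun t => !(dv t j) || !(dv t N) ||
        Nat.ble (lk T r (c + 1) (N / t) + 1 + lk T q (j / t) (N / t)) e) 7 &&
      allLt (fun f => !(dv (f + 1) j) || force (j / (f + 1)) fun m => !(dv r m) || !(dv r (q ^ (f + 1) - 1)) ||
        allLt (fun i => Nat.blt m (r ^ (i + 1)) || !(dv (r ^ (2 * (i + 1) + 1)) N) ||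
          (Nat.ble 3 e && Nat.ble (lk T r (2 * (i + 1)) (N / r ^ (2 * (i + 1) + 1)) + 2) e)) 7) j)

/-- one entry of the first table -/
def linChk (T : LTab) (S : STab) (q k N e : ℕ) : Bool :=
  Nat.blt e 1000 && allLt (fun j => (Nat.beq j 0 && Nat.ble 1 e) || force (Nat.gcd N (glN q (j + 1))) fun N1 =>
    solLk S q N1 e || clifChk T q (j + 1) N1 e) k

/-- all entries of the first table -/
def chkL (T : LTab) (S : STab) : Bool := T.all fun x => x.2.all fun y => linChk T S x.1 y.1 y.2.1 y.2.2

/-- all entries of the second table -/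
def chkS (T : LTab) (S : STab) : Bool := S.all fun y => solChk (okT T) y.1 y.2.1 y.2.2

/-- all entries hold for images of order `< n` -/
def TabLt (n : ℕ) (T : LTab) : Prop := ∀ x ∈ T, ∀ y ∈ x.2, x.1.Prime → LinLt n x.1 y.1 y.2.1 y.2.2

theorem TabLt.lk {n : ℕ} {T : LTab} (h : TabLt n T) {q k N : ℕ} (hq : q.Prime) (h1 : lk T q k N < 1000) :
    LinLt n q k N (lk T q k N) := by
  rw [Ord.lk] at h1 ⊢
  cases hb : Nat.beq k 0 with
  | true =>
    rw [Nat.eq_of_beq_eq_true hb]
    exact linLt_zero _ _ _ _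
  | false =>
    rw [hb, cond_false] at h1
    rw [cond_false]
    obtain ⟨y, hy, h2, h3, h4⟩ := lkL_spec h1
    obtain ⟨x, hx, rfl, hyx⟩ := mem_of_row hy
    exact (h x hx y hyx hq).mono le_rfl h2 h3 h4.le

theorem TabLt.ok {n : ℕ} {T : LTab} (h : TabLt n T) {q k N e : ℕ} (hq : q.Prime) (h1 : okT T q k N e = true) :
    LinLt n q k N e := by
  rw [okT, Bool.and_eq_true, Nat.blt_eq, Nat.ble_eq] at h1
  exact (h.lk hq (by omega)).mono le_rfl le_rfl dvd_rfl h1.2

theorem lt_seven {r c j : ℕ} (hr : r.Prime) (h : r ^ c ≤ j) (hj : j < 100) : c < 7 := by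
  by_contra hlt
  have h1 : 2 ^ 7 ≤ r ^ c :=
    (Nat.pow_le_pow_right (by norm_num) (by omega)).trans (Nat.pow_le_pow_left hr.two_le c)
  omega

theorem clif_of_chk {T : LTab} (G V : Type) [Group G] [Finite G] [Group.IsSolvable G] [AddCommGroup V] [Finite V]
    [DistribMulAction G V] (hT : TabLt (Nat.card G) T) (hirr : Irr G V) (hf : ∀ g : G, (∀ x : V, g • x = x) → g = 1)
    {q j N e : ℕ} (hq : q.Prime) (hc : Nat.card V = q ^ j) (hN : Nat.card G ∣ N) (he : e < 1000)
    (h : clifChk T q j N e = true) : DL G V e := by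
  rw [clifChk, Bool.and_eq_true, Bool.and_eq_true, Nat.ble_eq, Nat.blt_eq, List.all_eq_true] at h
  obtain ⟨⟨h1, h2⟩, h3⟩ := h
  have hj := exp_pos hirr hc
  have h4 : ∀ r, r.Prime → r ∣ j → _ := fun r hr hrj => by
    have h5 := h3 r (mem_PR hr (lt_of_le_of_lt (Nat.le_of_dvd hj hrj) h2))
    rw [Bool.or_eq_true, Bool.not_eq_true', ← Bool.not_eq_true, dv_iff, Bool.and_eq_true] at h5
    exact h5.resolve_left (not_not.2 hrj)
  refine clif G V hirr hf hq hc hN h1 ?_ ?_
  · rintro t r c hr rfl ht htj htN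
    obtain ⟨c, rfl⟩ : ∃ c', c = c' + 1 := by
      refine Nat.exists_eq_succ_of_ne_zero ?_
      rintro rfl
      simp at ht
    have h5 := allLt_spec (h4 r hr ((dvd_pow_self r (by omega)).trans htj)).1
      (show c < 7 by have := lt_seven hr (Nat.le_of_dvd hj htj) h2; omega)
    rw [force_eq, Bool.or_eq_true, Bool.or_eq_true, Bool.not_eq_true', Bool.not_eq_true', ← Bool.not_eq_true,
      ← Bool.not_eq_true, dv_iff, dv_iff, Nat.ble_eq] at h5
    have h6 := h5.resolve_left (not_or.2 ⟨not_not.2 htj, not_not.2 htN⟩)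
    exact ⟨_, _, h6, hT.lk hq (by omega), hT.lk hr (by omega)⟩
  · intro f m r i hr hfm hrm hrq hi him hrN
    obtain ⟨f, rfl⟩ : ∃ f', f = f' + 1 := by
      refine Nat.exists_eq_succ_of_ne_zero ?_
      rintro rfl
      omega
    obtain ⟨i, rfl⟩ : ∃ i', i = i' + 1 := ⟨i - 1, by omega⟩
    have hm : 0 < m := by
      refine Nat.pos_of_ne_zero ?_
      rintro rfl
      omega
    have hfj : f + 1 ∣ j := ⟨m, hfm.symm⟩
    have hmj : m ∣ j := ⟨f + 1, by rw [← hfm, mul_comm]⟩
    have h5 := allLt_spec (h4 r hr (hrm.trans hmj)).2 (show f < j from Nat.le_of_dvd hj hfj)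
    have e1 : j / (f + 1) = m := by rw [← hfm, Nat.mul_div_cancel_left _ (Nat.succ_pos f)]
    rw [Bool.or_eq_true, Bool.not_eq_true', ← Bool.not_eq_true, dv_iff, force_eq, e1, Bool.or_eq_true,
      Bool.or_eq_true, Bool.not_eq_true', Bool.not_eq_true', ← Bool.not_eq_true, ← Bool.not_eq_true, dv_iff,
      dv_iff] at h5
    have h6 := allLt_spec ((h5.resolve_left (not_not.2 hfj)).resolve_left (not_or.2 ⟨not_not.2 hrm, not_not.2 hrq⟩))
      (show i < 7 by have := lt_seven hr (him.trans (Nat.le_of_dvd hj hmj)) h2; omega)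
    rw [Bool.or_eq_true, Bool.or_eq_true, Nat.blt_eq, Bool.not_eq_true', ← Bool.not_eq_true, dv_iff,
      Bool.and_eq_true, Nat.ble_eq, Nat.ble_eq] at h6
    obtain ⟨h7, h8⟩ := h6.resolve_left (not_or.2 ⟨by omega, not_not.2 hrN⟩)
    exact ⟨h7, (hT.lk hr (by omega)).mono le_rfl le_rfl dvd_rfl (by omega)⟩

theorem tabLt_succ {n : ℕ} {T : LTab} {S : STab} (hL : chkL T S = true) (hS : chkS T S = true) (h : TabLt n T) :
    TabLt (n + 1) T := by
  intro x hx y hy hq G V _ _ _ _ _ _ hirr j hj hc hn hN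
  rw [chkL, List.all_eq_true] at hL
  have h1 := hL x hx
  rw [List.all_eq_true] at h1
  have h2 := h1 y hy
  rw [linChk, Bool.and_eq_true, Nat.blt_eq] at h2
  obtain ⟨j, rfl⟩ : ∃ j', j = j' + 1 := ⟨j - 1, by have := exp_pos hirr hc; omega⟩
  have h3 := allLt_spec h2.2 (show j < y.1 from hj)
  rw [Bool.or_eq_true, Bool.and_eq_true, Nat.beq_eq, Nat.ble_eq, force_eq, Bool.or_eq_true] at h3
  have hsol : Group.IsSolvable (Im G V) := range_solvable
  have hg : Nat.card (Im G V) ∣ Nat.gcd y.2.1 (glN x.1 (j + 1)) := Nat.dvd_gcd hN (card_im_dvd_gl hirr hq hc)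
  rcases h3 with ⟨rfl, h3⟩ | h3 | h3
  · exact (dln_prime hq G V hirr (by rw [hc, zero_add, pow_one])).mono h3
  · rw [solLk, List.any_eq_true] at h3
    obtain ⟨z, hz, h4⟩ := h3
    rw [Bool.and_eq_true, Bool.and_eq_true, Nat.ble_eq, Bool.or_eq_true, Nat.beq_eq, Nat.beq_eq, dv_iff] at h4
    rw [chkS, List.all_eq_true] at hS
    have h5 := sol_of_chk (Im G V) (fun q k N e hq' hok => chB_of_lin (h.ok hq' hok) (by omega)) (p := z.1) (by
      intro M hM hMp
      rw [eq_bot_iff]
      intro g hg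
      rcases h4.1.2 with h6 | h6
      · rw [h6] at hMp
        exact range_faithful g (irr_pcore hirr.range hq hc M hMp g hg)
      · rw [h6] at hMp
        obtain ⟨k, hk⟩ := hMp ⟨g, hg⟩
        rw [one_pow, pow_one] at hk
        exact congrArg Subtype.val hk) (hg.trans h4.2) (hS z hz)
    refine DL.of_range (DL.mono ?_ h4.1.1)
    intro g hg v
    rw [dser_top, h5, mem_bot] at hg
    rw [hg, one_smul]
  · refine DL.of_range (clif_of_chk (Im G V) V ?_ hirr.range range_faithful hq hc hg h2.1 h3)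
    intro x' hx' y' hy' hq'
    exact (h x' hx' y' hy' hq').mono (by omega) le_rfl dvd_rfl le_rfl

/-- a valid table -/
def Valid (T : LTab) : Prop := ∀ n, TabLt n T

/-- **Soundness of the checker.** -/
theorem valid_of_chk {T : LTab} {S : STab} (hL : chkL T S = true) (hS : chkS T S = true) : Valid T := by
  intro n
  induction n with
  | zero =>
    intro x _ y _ _ G V _ _ _ _ _ _ _ j _ _ h
    omega
  | succ n ih => exact tabLt_succ hL hS ih

theorem Valid.chB {T : LTab} (h : Valid T) (X : Type) [Group X] [Finite X] [Group.IsSolvable X] {q k N e : ℕ}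
    (hq : q.Prime) (h1 : okT T q k N e = true) : ChB X q k N e :=
  chB_of_lin ((h (Nat.card X)).ok hq h1) le_rfl

/-- irreducible solvable groups -/
theorem Valid.dl {T : LTab} (h : Valid T) (G V : Type) [Group G] [Finite G] [Group.IsSolvable G] [AddCommGroup V]
    [Finite V] [DistribMulAction G V] (hirr : Irr G V) {q k N e j : ℕ} (hq : q.Prime) (hj : j ≤ k)
    (hc : Nat.card V = q ^ j) (hN : Nat.card (Im G V) ∣ N) (h1 : okT T q k N e = true) : DL G V e :=
  (h (Nat.card (Im G V) + 1)).ok hq h1 G V hirr j hj hc (Nat.lt_succ_self _) hN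

/-- solvable groups without normal `p`-subgroups -/
theorem Valid.sol {T : LTab} (h : Valid T) (X : Type) [Group X] [Finite X] [Group.IsSolvable X] {p N D : ℕ}
    (hp : ∀ M : Subgroup X, M.Normal → IsPGroup p M → M = ⊥) (hN : Nat.card X ∣ N)
    (h1 : solChk (okT T) p N D = true) : derivedSeries X D = ⊥ :=
  sol_of_chk X (fun _ _ _ _ hq hok => h.chB X hq hok) hp hN h1

theorem normal_one_bot {X : Type*} [Group X] (M : Subgroup X) (h : IsPGroup 1 M) : M = ⊥ := by
  rw [eq_bot_iff]
  intro g hg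
  obtain ⟨k, hk⟩ := h ⟨g, hg⟩
  rw [one_pow, pow_one] at hk
  exact congrArg Subtype.val hk

/-- all solvable groups -/
theorem Valid.sol_one {T : LTab} (h : Valid T) (X : Type) [Group X] [Finite X] [Group.IsSolvable X] {N D : ℕ}
    (hN : Nat.card X ∣ N) (h1 : solChk (okT T) 1 N D = true) : derivedSeries X D = ⊥ :=
  h.sol X (fun M _ hM => normal_one_bot M hM) hN h1

end Cfsg.Agent.DS.Ord
end

-- part: DS/Ord/TabA
section
/-!
# Order recursion for derived lengths: a table (helper57; generated by notes/DS/ordgen.py)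

All orders divide `2^46 3^20 5^9 7^6 11^3 13^3 17 19 23 29 31 37 41 43 47 59 67 71`.
-/

set_option autoImplicit false

namespace Cfsg.Agent.DS.Ord

/-- bounds for irreducible groups -/
def tabAL : LTab :=
  [(2, [(3, 2309644079272999234464928215118905344000000000, 0), (2, 271727316282389086935564339580524094816256000000000, 0), (1, 947454567739027579339558631381238297209966382022656000000000, 0), (4, 3861477413840775155557087424263671875, 1), (2, 13464139211393836310144800895915840004732421875, 1), (8, 34753296724566976400013786818373046875, 2), (7, 48502525664732983923763492517497012224000000000, 2), (5, 815181948847167260806693018741572284448768000000000, 2), (5, 26928278422787672620289601791831680009464843750, 2), (3, 947454567739027579339558631381238297209966382022656000000000, 2), (17, 13464139211393836310144800895915840004732421875, 3), (11, 271727316282389086935564339580524094816256000000000, 3), (11, 260541166614829477384526515089843750, 3), (8, 26928278422787672620289601791831680009464843750,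 3), (8, 139013186898267905600055147273492187500, 3), (7, 815181948847167260806693018741572284448768000000000, 3), (7, 145507576994198951771290477552491036672000000000, 3), (5, 947454567739027579339558631381238297209966382022656000000000, 3), (19, 271727316282389086935564339580524094816256000000000, 4), (11, 53856556845575345240579203583663360018929687500, 4), (11, 834079121389607433600330883640953125000, 4), (7, 7336637539624505347260237168674150560038912000000000, 4), (17, 107713113691150690481158407167326720037859375000, 5), (15, 7336637539624505347260237168674150560038912000000000, 5), (35, 53856556845575345240579203583663360018929687500, 6), (17, 215426227382301380962316814334653440075718750000, 6), (11, 947454567739027579339558631381238297209966382022656000000000, 6), (46, 107713113691150690481158407167326720037859375000, 7), (17, 947454567739027579339558631381238297209966382022656000000000, 7), (46, 9456295303475506434559860162838011087000000000, 8), (35, 430852454764602761924633628669306880151437500000,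 8), (27, 861704909529205523849267257338613760302875000000, 8), (23, 947454567739027579339558631381238297209966382022656000000000, 8), (46, 947454567739027579339558631381238297209966382022656000000000, 9)]),
   (3, [(2, 13464139211393836310144800895915840004732421875, 0), (3, 12256840429125021675143196081853290855468750, 1), (2, 26928278422787672620289601791831680009464843750, 1), (1, 947454567739027579339558631381238297209966382022656000000000, 1), (4, 53856556845575345240579203583663360018929687500, 2), (3, 271727316282389086935564339580524094816256000000000, 2), (5, 107713113691150690481158407167326720037859375000, 3), (9, 494269108971619219911307190305750000000, 4), (7, 271727316282389086935564339580524094816256000000000, 4), (5, 861704909529205523849267257338613760302875000000, 4), (3, 947454567739027579339558631381238297209966382022656000000000, 4), (15, 271727316282389086935564339580524094816256000000000, 5), (11, 24103633832984769897881601603877307980500000000, 5), (9, 23724917230637722555742745134676000000000,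 5), (8, 35587375845956583833614117702014000000000, 5), (5, 947454567739027579339558631381238297209966382022656000000000, 5), (20, 271727316282389086935564339580524094816256000000000, 6), (19, 427048510151479006003369412424168000000000, 6), (17, 530279944325664937753395235285300775571000000000, 6), (11, 6893639276233644190794138058708910082423000000000, 6), (7, 947454567739027579339558631381238297209966382022656000000000, 6), (20, 13787278552467288381588276117417820164846000000000, 7), (15, 7336637539624505347260237168674150560038912000000000, 7), (15, 947454567739027579339558631381238297209966382022656000000000, 8), (20, 947454567739027579339558631381238297209966382022656000000000, 9)]),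
   (5, [(1, 13464139211393836310144800895915840004732421875, 0), (1, 947454567739027579339558631381238297209966382022656000000000, 1), (3, 53856556845575345240579203583663360018929687500, 2), (5, 107713113691150690481158407167326720037859375000, 3), (3, 271727316282389086935564339580524094816256000000000, 3), (3, 947454567739027579339558631381238297209966382022656000000000, 4), (5, 947454567739027579339558631381238297209966382022656000000000, 5), (9, 6893639276233644190794138058708910082423000000000, 6), (7, 947454567739027579339558631381238297209966382022656000000000, 6), (9, 13787278552467288381588276117417820164846000000000, 7), (9, 947454567739027579339558631381238297209966382022656000000000, 8)]),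
   (7, [(2, 3861477413840775155557087424263671875, 0), (1, 947454567739027579339558631381238297209966382022656000000000, 1), (2, 53856556845575345240579203583663360018929687500, 2), (2, 107713113691150690481158407167326720037859375000, 3), (2, 947454567739027579339558631381238297209966382022656000000000, 4), (5, 7336637539624505347260237168674150560038912000000000, 5), (5, 947454567739027579339558631381238297209966382022656000000000, 6), (6, 947454567739027579339558631381238297209966382022656000000000, 7)]),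
   (11, [(1, 947454567739027579339558631381238297209966382022656000000000, 1), (3, 271727316282389086935564339580524094816256000000000, 3), (3, 947454567739027579339558631381238297209966382022656000000000, 4)]),
   (13, [(1, 947454567739027579339558631381238297209966382022656000000000, 1), (3, 271727316282389086935564339580524094816256000000000, 3), (2, 947454567739027579339558631381238297209966382022656000000000, 4), (3, 7336637539624505347260237168674150560038912000000000, 5), (3, 947454567739027579339558631381238297209966382022656000000000, 6)]),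
   (17, [(1, 947454567739027579339558631381238297209966382022656000000000, 1)]),
   (19, [(1, 947454567739027579339558631381238297209966382022656000000000, 1)]),
   (23, [(1, 947454567739027579339558631381238297209966382022656000000000, 1)]),
   (29, [(1, 947454567739027579339558631381238297209966382022656000000000, 1)]),
   (31, [(1, 947454567739027579339558631381238297209966382022656000000000, 1)]),
   (37, [(1, 947454567739027579339558631381238297209966382022656000000000, 1)]),
   (41, [(1, 947454567739027579339558631381238297209966382022656000000000, 1)]),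
   (43, [(1, 947454567739027579339558631381238297209966382022656000000000, 1)]),
   (47, [(1, 947454567739027579339558631381238297209966382022656000000000, 1)]),
   (59, [(1, 947454567739027579339558631381238297209966382022656000000000, 1)]),
   (67, [(1, 947454567739027579339558631381238297209966382022656000000000, 1)]),
   (71, [(1, 947454567739027579339558631381238297209966382022656000000000, 1)])]

/-- bounds for groups without normal `p`-subgroups -/
def tabAS : STab :=
  [(2, 8, 0),
   (7, 7, 0),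
   (3, 3, 0),
   (5, 1, 0),
   (3, 54, 1),
   (2, 35, 1),
   (2, 3, 1),
   (2, 106659840, 2),
   (5, 46500, 2),
   (3, 1404, 2),
   (3, 16, 2),
   (2, 1150414650, 3),
   (5, 453375000, 3),
   (2, 319979520, 3),
   (3, 379080, 3),
   (2, 273420, 3),
   (3, 18780361600, 4),
   (2, 139444200, 4),
   (3, 3032640, 4),
   (3, 130966143744038803200, 5),
   (3, 1352186035200, 5),
   (3, 901457356800, 5),
   (3, 197149884485088812397120000, 6),
   (3, 781307334119724572160000, 6),
   (5, 6959911959000000000, 6),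
   (3, 630613478008229329774047888000000, 7),
   (2, 2392181963945233097536013195759679000000000, 8),
   (2, 29643799828385851933025986785000000, 8)]

theorem tabA_chkL : chkL tabAL tabAS = true := by decide +kernel

theorem tabA_chkS : chkS tabAL tabAS = true := by decide +kernel

/-- the table is valid -/
theorem tabA_valid : Valid tabAL := valid_of_chk tabA_chkL tabA_chkS

end Cfsg.Agent.DS.Ord
end

private theorem dce_e4ee1389e8bf : _root_.True := by
  try have : _root_.True := by simp only [_root_.Cfsg.Agent.DS.Ord.vq.eq_def]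
  try have : _root_.True := by simp only [_root_.Cfsg.Agent.DS.Ord.glN.eq_1]
  try have : _root_.True := by simp only [_root_.Cfsg.Agent.DS.Ord.glAux.eq_def]
  try have : _root_.True := by simp only [_root_.Cfsg.Agent.DS.Ord.row.eq_def]
  try have : _root_.True := by simp only [_root_.Cfsg.Agent.DS.Ord.okT.eq_1]
  try have : _root_.True := by simp only [_root_.Cfsg.Agent.DS.Ord.stepChk.eq_1]
  try have : _root_.True := by simp only [_root_.Cfsg.Agent.DS.Ord.linChk.eq_1]
  try have : _root_.True := by simp only [_root_.Cfsg.Agent.DS.Ord.lk.eq_1]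
  try have : _root_.True := by simp only [_root_.Cfsg.Agent.DS.Ord.allLt.eq_def]
  try have : _root_.True := by simp only [_root_.Cfsg.Agent.DS.Ord.solChk.eq_1]
  try have : _root_.True := by simp only [_root_.Cfsg.Agent.DS.Ord.chkL.eq_1]
  try have : _root_.True := by simp only [_root_.Cfsg.Agent.DS.Ord.clifChk.eq_1]
  try have : _root_.True := by simp only [_root_.Cfsg.Agent.DS.Ord.dv.eq_1]
  try have : _root_.True := by simp only [_root_.Cfsg.Agent.DS.Ord.chkS.eq_1]
  try have : _root_.True := by simp only [_root_.Cfsg.Agent.DS.Ord.lkL.eq_def]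
  try have : _root_.True := by simp only [_root_.Cfsg.Agent.DS.Ord.solLk.eq_1]
  exact _root_.True.intro
end

-- part: DS/Ord/SDO
section
set_option linter.all false
open scoped Cfsg.Agent.FastGrp

/-!
# Order recursion for derived lengths: `SDOrd` and `PS` (helper57)

`sdOrd_of (by decide +kernel) : SDOrd N d` whenever the checker accepts; `ps_of_sdOrd`.
-/

set_option autoImplicit false

namespace Cfsg.Agent.DS.Ord

open Cfsg Cfsg.Agent.H936 Subgroup

theorem Valid.sdOrd {T : LTab} (hT : Valid T) {N d : ℕ} (h : solChk (okT T) 1 N d = true) : SDOrd N d :=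
  fun X _ _ _ hN => hT.sol_one X hN h

theorem sdOrd_of {N d : ℕ} (h : solChk (okT tabAL) 1 N d = true) : SDOrd N d := tabA_valid.sdOrd h

/-- the derived series of a finite group becomes stationary -/
theorem exists_ps (H : Type*) [Group H] [Finite H] : ∃ n, PS n H := by
  obtain ⟨R, hR⟩ := (Set.toFinite (Set.range (derivedSeries H))).exists_minimal ⟨_, 0, rfl⟩
  obtain ⟨n, rfl⟩ := hR.prop
  exact ⟨n, le_antisymm (derivedSeries_antitone H (Nat.le_succ n))
    (hR.le_of_le ⟨n + 1, rfl⟩ (derivedSeries_antitone H (Nat.le_succ n)))⟩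

/-- `PS` from a bound for the solvable quotient by the perfect residual -/
theorem ps_of_quot {H : Type*} [Group H] {n k : ℕ} (hn : PS n H)
    (h : derivedSeries (H ⧸ derivedSeries H n) k = ⊥) : PS k H := by
  have h1 : derivedSeries H k ≤ derivedSeries H n := by
    rw [← map_derivedSeries_of_surj (QuotientGroup.mk'_surjective (derivedSeries H n)) k, Subgroup.map_eq_bot_iff,
      QuotientGroup.ker_mk'] at h
    exact h
  refine le_antisymm (derivedSeries_antitone H (Nat.le_succ k)) (h1.trans ?_)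
  rw [← hn.eq (le_max_left n (k + 1))]
  exact derivedSeries_antitone H (le_max_right n (k + 1))

theorem quot_solvable (H : Type*) [Group H] (n : ℕ) : Group.IsSolvable (H ⧸ derivedSeries H n) := by
  refine ⟨⟨n, ?_⟩⟩
  rw [← map_derivedSeries_of_surj (QuotientGroup.mk'_surjective (derivedSeries H n)) n, Subgroup.map_eq_bot_iff,
    QuotientGroup.ker_mk']

theorem ps_of_sdOrd {N k : ℕ} (h : SDOrd N k) (H : Type) [Group H] [Finite H] (hN : Nat.card H ∣ N) : PS k H := by
  obtain ⟨n, hn⟩ := exists_ps H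
  exact ps_of_quot hn (h _ (quot_solvable H n) ((card_quotient_dvd_card _).trans hN))

/-- the order of an almost simple group -/
theorem card_dvd_of_setup {G : Type} [Group G] [Finite G] {S H : Subgroup G} (hs : Setup S H) :
    Nat.card G ∣ Nat.card S * Nat.card (Cfsg.Out S) := by
  have hN := hs.normal
  have h1 : Function.Injective (MulAut.conjNormal : G →* MulAut S) := by
    rw [injective_iff_map_eq_one]
    intro g hg
    rw [← mem_bot, ← hs.cent, mem_centralizer_iff]
    intro y hy
    have h2 := congrArg Subtype.val (DFunLike.congr_fun hg ⟨y, hy⟩)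
    have h3 : g * y * g⁻¹ = y := h2
    calc y * g = g * y * g⁻¹ * g := by rw [h3]
      _ = g * y := by group
  refine (card_dvd_of_injective _ h1).trans ?_
  rw [← (Cfsg.Inn S).card_mul_index]
  exact Nat.mul_dvd_mul (card_dvd_of_surjective _ (MulAut.conj : S →* MulAut S).rangeRestrict_surjective) dvd_rfl

theorem ps_of_orders {N k : ℕ} (h : SDOrd N k) {G : Type} [Group G] [Finite G] {S H : Subgroup G} (hs : Setup S H)
    {n o : ℕ} (h1 : Nat.card S = n) (h2 : Nat.card (Cfsg.Out S) ∣ o) (h3 : n * o ∣ N) : PS k H := by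
  refine ps_of_sdOrd h H ((card_subgroup_dvd_card H).trans ((card_dvd_of_setup hs).trans (dvd_trans ?_ h3)))
  rw [h1]
  exact Nat.mul_dvd_mul_left n h2

theorem card_out_of {X Y : Type*} [Group X] [Group Y] (h : Nonempty (X ≃* Y)) {o : ℕ}
    (hY : Nat.card (Cfsg.Out Y) = o) : Nat.card (Cfsg.Out X) ∣ o := by
  obtain ⟨e⟩ := h
  rw [H934.OutB.card_out_congr e, hY]

/-- the bound used for the sporadic groups -/
def NA : ℕ := 2 ^ 21 * 3 ^ 12 * 5 ^ 6 * 7 ^ 3 * 11 ^ 3 * 13 * 17 * 19 * 23 * 29 * 31 * 37 * 43 * 67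

theorem sdOrd_NA : SDOrd NA 9 := sdOrd_of (by decide +kernel)

/-- the order of the Weyl group of type `E₈` -/
theorem sdOrd_WE8 : SDOrd 696729600 8 := sdOrd_of (by decide +kernel)

theorem sdOrd_Fi23 : SDOrd 4089470473293004800 10 := sdOrd_of (by decide +kernel)

end Cfsg.Agent.DS.Ord
end

-- part: DS/Sp/F24ATools
section
set_option linter.all false
open scoped Cfsg.Agent.FastGrp

/-!
# S5881, S5882, the box `BoxFi24`: orbit lemma and abelian subgroups of extraspecial groups (helper78)
-/

set_option autoImplicit false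
set_option linter.style.haveILetI false

namespace Cfsg.Agent.DS.Sp.F24

open Subgroup

/-- a `p`-group acting on a set whose size is not divisible by `p ^ (k + 1)` has a short orbit -/
theorem exists_short_orbit {P : Type*} [Group P] [Finite P] {p k : ℕ} [hp : Fact p.Prime] (hP : IsPGroup p P)
    (X : Type*) [Finite X] [MulAction P X] (h : ¬ p ^ (k + 1) ∣ Nat.card X) :
    ∃ a : X, (MulAction.stabilizer P a).index ∣ p ^ k := by
  classical
  by_contra hne
  push Not at hne
  apply h
  letI : Fintype (MulAction.orbitRel.Quotient P X) := Fintype.ofFinite _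
  rw [Nat.card_congr (MulAction.selfEquivSigmaOrbits P X), Nat.card_sigma]
  refine Finset.dvd_sum fun ω _ => ?_
  have h1 := hne ω.out
  obtain ⟨j, hj⟩ := hP.index (MulAction.stabilizer P ω.out)
  have h2 : p ^ (k + 1) ∣ (MulAction.stabilizer P ω.out).index := by
    rw [hj] at h1 ⊢
    refine pow_dvd_pow p ?_
    by_contra hlt
    exact h1 (pow_dvd_pow p (by omega))
  rwa [MulAction.index_stabilizer, ← Nat.card_coe_set_eq] at h2

/-- **the orbit lemma** -/
theorem exists_cent_card {G : Type*} [Group G] [Finite G] {p k : ℕ} [Fact p.Prime] {P T : Subgroup G}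
    (hP : IsPGroup p P) (hPT : P ≤ normalizer (T : Set G)) (h : ¬ p ^ (k + 1) ∣ Nat.card T - 1) :
    ∃ t ∈ T, t ≠ 1 ∧ Nat.card P ∣ p ^ k * Nat.card (P ⊓ centralizer ({t} : Set G) : Subgroup G) := by
  classical
  letI : MulAction P {t : T // t ≠ 1} :=
    { smul := fun g t => ⟨⟨g * t.1 * (g : G)⁻¹, (mem_normalizer_iff.1 (hPT g.2) _).1 t.1.2⟩, fun h0 => t.2 (by
        have h1 : (g : G) * t.1 * (g : G)⁻¹ = 1 := congrArg Subtype.val h0
        apply Subtype.ext
        rwa [conj_eq_one_iff] at h1)⟩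
      one_smul := fun t => by
        apply Subtype.ext
        apply Subtype.ext
        change (1 : G) * t.1 * (1 : G)⁻¹ = t.1
        group
      mul_smul := fun g k t => by
        apply Subtype.ext
        apply Subtype.ext
        change ((g : G) * k) * t.1 * ((g : G) * k)⁻¹ = g * (k * t.1 * (k : G)⁻¹) * (g : G)⁻¹
        group }
  have hc : Nat.card {t : T // t ≠ 1} = Nat.card T - 1 := by
    letI : Fintype T := Fintype.ofFinite _
    rw [Nat.card_eq_fintype_card, Nat.card_eq_fintype_card, Fintype.card_subtype_compl, Fintype.card_subtype_eq]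
  obtain ⟨a, ha⟩ := exists_short_orbit hP {t : T // t ≠ 1} (by rwa [hc])
  refine ⟨a.1, a.1.2, fun h0 => a.2 (Subtype.ext h0), ?_⟩
  have h1 : MulAction.stabilizer P a = (P ⊓ centralizer ({(a.1 : G)} : Set G)).subgroupOf P := by
    ext g
    rw [MulAction.mem_stabilizer_iff, mem_subgroupOf, mem_inf, mem_centralizer_singleton_iff]
    constructor
    · intro hg
      have h1 : (g : G) * a.1 * (g : G)⁻¹ = a.1 := congrArg (fun t : {t : T // t ≠ 1} => (t.1 : G)) hg
      exact ⟨g.2, mul_inv_eq_iff_eq_mul.1 h1⟩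
    · intro hg
      apply Subtype.ext
      apply Subtype.ext
      exact mul_inv_eq_iff_eq_mul.2 hg.2
  have h2 := (MulAction.stabilizer P a).index_mul_card
  rw [← h2]
  refine Nat.mul_dvd_mul ha ?_
  rw [h1, Nat.card_congr (subgroupOfEquivOfLe inf_le_left).toEquiv]

/-- a group of prime order embeds in the multiplicative group of a field -/
theorem exists_emb {Z : Type*} [Group Z] {p : ℕ} (hp : p.Prime) (hZ : Nat.card Z = p) :
    ∃ ι : Z →* ℂˣ, Function.Injective ι := by
  haveI : Fact p.Prime := ⟨hp⟩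
  haveI : IsCyclic Z := isCyclic_of_prime_card hZ
  haveI : IsSimpleGroup Z := isSimpleGroup_of_prime_card hZ
  obtain ⟨g, hg⟩ := IsCyclic.exists_generator (α := Z)
  have hζ := Complex.isPrimitiveRoot_exp p hp.ne_zero
  set u : ℂˣ := (hζ.isUnit hp.ne_zero).unit with hu
  have hu' : IsPrimitiveRoot u p := hζ.isUnit_unit hp.ne_zero
  have ho : orderOf g = p := by rw [orderOf_eq_card_of_forall_mem_zpowers hg, hZ]
  have hd : orderOf u ∣ orderOf g := by rw [ho, ← hu'.eq_orderOf]
  refine ⟨monoidHomOfForallMemZpowers hg hd, ?_⟩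
  rw [← MonoidHom.ker_eq_bot_iff]
  rcases (inferInstance : (monoidHomOfForallMemZpowers hg hd).ker.Normal).eq_bot_or_eq_top with h | h
  · exact h
  · exfalso
    have h1 : g ∈ (monoidHomOfForallMemZpowers hg hd).ker := by rw [h]; trivial
    rw [MonoidHom.mem_ker, monoidHomOfForallMemZpowers_apply_gen] at h1
    have h2 := hu'.eq_orderOf
    rw [h1, orderOf_one] at h2
    exact hp.one_lt.ne' h2

/-- **abelian subgroups of groups with a central commutator subgroup of prime order** -/
theorem card_sq_le {G : Type*} [Group G] [Finite G] {p : ℕ} (hp : p.Prime) {Z Q A : Subgroup G}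
    (hZ : Nat.card Z = p) (hc : ∀ x ∈ Q, ∀ y ∈ Q, x * y * x⁻¹ * y⁻¹ ∈ Z) (hz : ∀ x ∈ Q, ∀ a ∈ Z, x * a = a * x)
    (hA : A ≤ Q) (hab : ∀ x ∈ A, ∀ y ∈ A, x * y = y * x) :
    Nat.card A * Nat.card A ≤ Nat.card Q * Nat.card (A ⊓ centralizer (Q : Set G) : Subgroup G) := by
  obtain ⟨ι, hι⟩ := exists_emb hp hZ
  have h := H348.Trans.relIndex_centralizer_eq Z Q A ι hι (fun x hx y hy => hc x hx y (hA hy)) hz
    (fun y hy => hz y (hA hy))
  have h1 : Nat.card (Q ⊓ centralizer (A : Set G) : Subgroup G) * (centralizer (A : Set G)).relIndex Q =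
      Nat.card Q := by
    rw [← inf_relIndex_left, ← Nat.card_congr (subgroupOfEquivOfLe (inf_le_left :
      Q ⊓ centralizer (A : Set G) ≤ Q)).toEquiv]
    exact card_mul_index _
  have h2 : Nat.card (A ⊓ centralizer (Q : Set G) : Subgroup G) * (centralizer (Q : Set G)).relIndex A =
      Nat.card A := by
    rw [← inf_relIndex_left, ← Nat.card_congr (subgroupOfEquivOfLe (inf_le_left :
      A ⊓ centralizer (Q : Set G) ≤ A)).toEquiv]
    exact card_mul_index _
  have h3 : Nat.card A ≤ Nat.card (Q ⊓ centralizer (A : Set G) : Subgroup G) :=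
    card_le_of_le (le_inf hA fun x hx => mem_centralizer_iff.2 fun y hy => hab y hy x hx)
  calc Nat.card A * Nat.card A ≤ Nat.card (Q ⊓ centralizer (A : Set G) : Subgroup G) * Nat.card A :=
        Nat.mul_le_mul_right _ h3
    _ = _ := by rw [← h1, h]; conv_lhs => rw [← h2]
                ring

/-- an abelian subgroup of an extraspecial group of order `p ^ (2 n + 1)` has order at most `p ^ (n + 1)` -/
theorem card_le_of_es {G : Type*} [Group G] [Finite G] {p n : ℕ} (hp : p.Prime) {Q A : Subgroup G}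
    (hc : commutator Q = center Q) (hZ : Nat.card (center Q) = p) (hQ : Nat.card Q = p ^ (2 * n + 1))
    (hA : A ≤ Q) (hab : ∀ x ∈ A, ∀ y ∈ A, x * y = y * x) : Nat.card A ≤ p ^ (n + 1) := by
  have hZ' : Nat.card ((center Q).map Q.subtype) = p := by
    rw [card_map_of_injective Q.subtype_injective, hZ]
  have h := card_sq_le hp hZ' (Q := Q) (A := A) (by
      intro x hx y hy
      refine ⟨⟨x, hx⟩ * ⟨y, hy⟩ * ⟨x, hx⟩⁻¹ * ⟨y, hy⟩⁻¹, ?_, rfl⟩
      rw [← hc]
      exact commutator_mem_commutator (mem_top _) (mem_top _))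
    (by
      rintro x hx _ ⟨a, ha, rfl⟩
      exact congrArg Subtype.val (mem_center_iff.1 ha ⟨x, hx⟩)) hA hab
  have h1 : Nat.card (A ⊓ centralizer (Q : Set G) : Subgroup G) ≤ p := by
    rw [← hZ']
    refine card_le_of_le ?_
    intro x hx
    refine ⟨⟨x, hA hx.1⟩, mem_center_iff.2 fun g => Subtype.ext ?_, rfl⟩
    exact mem_centralizer_iff.1 hx.2 g g.2
  have h2 : Nat.card A * Nat.card A ≤ p ^ (n + 1) * p ^ (n + 1) :=
    calc Nat.card A * Nat.card A ≤ _ := h
      _ ≤ p ^ (2 * n + 1) * p := by rw [hQ]; exact Nat.mul_le_mul_left _ h1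
      _ = _ := by ring
  exact Nat.mul_self_le_mul_self_iff.1 h2

end Cfsg.Agent.DS.Sp.F24
end

-- part: DS/Sp/D8Defs
section
set_option linter.all false

/-!
# Hypotheses for the `3`-constrained solvable groups of large derived length (helper57)
-/

set_option autoImplicit false

namespace Cfsg.Agent.DS.Sp

open Subgroup

/-- the common multiple of the orders in the table `Ord.tabAL` -/
def NB : ℕ := 2 ^ 46 * 3 ^ 20 * 5 ^ 9 * 7 ^ 6 * 11 ^ 3 * 13 ^ 3 * 17 * 19 * 23 * 29 * 31 * 37 * 41 * 43 * 47 * 59 * 67 * 71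

/-- the centralizer of `V` in the commutator subgroup has small `2`-part, or a series whose factors meet `3`-subgroups in at most `3 ^ 7` -/
def S7 (Y : Type*) [Group Y] (V : Subgroup Y) : Prop :=
  ¬ 2 ^ 7 ∣ Nat.card (centralizer (V : Set Y) ⊓ commutator Y : Subgroup Y) ∨
    ∃ C1 C2 : Subgroup Y, C2 ≤ C1 ∧ centralizer (V : Set Y) ≤ normalizer (C1 : Set Y) ∧
      centralizer (V : Set Y) ≤ normalizer (C2 : Set Y) ∧
      ∀ U : Subgroup Y, U ≤ centralizer (V : Set Y) → IsPGroup 3 U →
        C1.relIndex U ≤ 3 ^ 7 ∧ C2.relIndex (U ⊓ C1) ≤ 3 ^ 7 ∧ Nat.card (U ⊓ C2 : Subgroup Y) ≤ 3 ^ 7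

end Cfsg.Agent.DS.Sp
end

-- part: DS/Sp/Tools
section
set_option linter.all false
open scoped Cfsg.Agent.FastGrp

/-!
# S5881, S5882, sporadic rows: small tools (helper57)
-/

set_option autoImplicit false
set_option linter.style.haveILetI false

namespace Cfsg.Agent.DS.Sp

open Subgroup Cfsg.Agent.H936
open scoped commutatorElement

theorem commutator_le_of_index {P : Type*} [Group P] [Finite P] {p : ℕ} [hp : Fact p.Prime] (hP : IsPGroup p P)
    (H : Subgroup P) (h : ¬ p ^ 2 ∣ H.index) : commutator P ≤ H := by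
  obtain ⟨k, hk⟩ := hP.index H
  have hk2 : k < 2 := by
    by_contra hlt
    exact h (by rw [hk]; exact pow_dvd_pow p (by omega))
  rcases Nat.eq_zero_or_pos k with rfl | hpos
  · rw [pow_zero, index_eq_one] at hk
    rw [hk]
    exact le_top
  obtain rfl : k = 1 := by omega
  rw [pow_one] at hk
  obtain ⟨n, hn⟩ := IsPGroup.iff_card.1 hP
  have hn0 : n ≠ 0 := by
    rintro rfl
    have h1 := H.index_dvd_card
    rw [hn, hk, pow_zero, Nat.dvd_one] at h1
    exact hp.out.one_lt.ne' h1
  haveI : H.Normal := normal_of_index_eq_minFac_card (by rw [hk, hn, hp.out.pow_minFac hn0])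
  haveI : IsCyclic (P ⧸ H) := isCyclic_of_prime_card (p := p) hk
  exact Normal.quotient_commutative_iff_commutator_le.1 IsCyclic.isMulCommutative

/-- a `p`-group acting on a set whose size is not divisible by `p ^ 2` -/
theorem exists_fix_commutator {P : Type*} [Group P] [Finite P] {p : ℕ} [Fact p.Prime] (hP : IsPGroup p P)
    (X : Type*) [Finite X] [MulAction P X] (h : ¬ p ^ 2 ∣ Nat.card X) :
    ∃ a : X, commutator P ≤ MulAction.stabilizer P a := by
  classical
  by_contra hne
  push Not at hne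
  apply h
  letI : Fintype (MulAction.orbitRel.Quotient P X) := Fintype.ofFinite _
  rw [Nat.card_congr (MulAction.selfEquivSigmaOrbits P X), Nat.card_sigma]
  refine Finset.dvd_sum fun ω _ => ?_
  by_contra h1
  refine hne ω.out (commutator_le_of_index hP _ ?_)
  rwa [MulAction.index_stabilizer, ← Nat.card_coe_set_eq]

theorem exists_cent_commutator {G : Type*} [Group G] [Finite G] {p : ℕ} [Fact p.Prime] {P T : Subgroup G}
    (hP : IsPGroup p P) (hPT : P ≤ normalizer (T : Set G)) (h : ¬ p ^ 2 ∣ Nat.card T - 1) :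
    ∃ t ∈ T, t ≠ 1 ∧ ∀ c ∈ ⁅P, P⁆, c * t = t * c := by
  classical
  letI : MulAction P {t : T // t ≠ 1} :=
    { smul := fun g t => ⟨⟨g * t.1 * (g : G)⁻¹, (mem_normalizer_iff.1 (hPT g.2) _).1 t.1.2⟩, fun h0 => t.2 (by
        have h1 : (g : G) * t.1 * (g : G)⁻¹ = 1 := congrArg Subtype.val h0
        apply Subtype.ext
        rwa [conj_eq_one_iff] at h1)⟩
      one_smul := fun t => by
        apply Subtype.ext
        apply Subtype.ext
        change (1 : G) * t.1 * (1 : G)⁻¹ = t.1
        group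
      mul_smul := fun g k t => by
        apply Subtype.ext
        apply Subtype.ext
        change ((g : G) * k) * t.1 * ((g : G) * k)⁻¹ = g * (k * t.1 * (k : G)⁻¹) * (g : G)⁻¹
        group }
  have hc : Nat.card {t : T // t ≠ 1} = Nat.card T - 1 := by
    letI : Fintype T := Fintype.ofFinite _
    rw [Nat.card_eq_fintype_card, Nat.card_eq_fintype_card, Fintype.card_subtype_compl, Fintype.card_subtype_eq]
  obtain ⟨a, ha⟩ := exists_fix_commutator hP {t : T // t ≠ 1} (by rwa [hc])
  refine ⟨a.1, a.1.2, fun h0 => a.2 (Subtype.ext h0), ?_⟩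
  intro c hc
  rw [← map_subtype_commutator] at hc
  obtain ⟨g, hg, rfl⟩ := hc
  have h1 : (g : G) * a.1 * (g : G)⁻¹ = a.1 := congrArg (fun t : {t : T // t ≠ 1} => (t.1 : G)) (ha hg)
  change (g : G) * a.1 = a.1 * g
  rw [← h1, inv_mul_cancel_right, h1]

/-- the Heisenberg relations generate a `p`-group -/
theorem exists_pgroup_heis {G : Type*} [Group G] [Finite G] {p : ℕ} [Fact p.Prime] {x y c : G} (hx : x ^ p = 1)
    (hy : y ^ p = 1) (hc : c ^ p = 1) (h : x * y = c * y * x) (hcx : c * x = x * c) (hcy : c * y = y * c) :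
    ∃ P : Subgroup G, IsPGroup p P ∧ c ∈ ⁅P, P⁆ := by
  have z : ∀ {g : G}, g ^ p = 1 → IsPGroup p (zpowers g) := by
    intro g hg
    rintro ⟨_, k, rfl⟩
    refine ⟨1, Subtype.ext ?_⟩
    change (g ^ k) ^ p ^ 1 = 1
    rw [pow_one, ← zpow_natCast, ← zpow_mul, mul_comm, zpow_mul, zpow_natCast, hg, one_zpow]
  have nz : ∀ {g : G} {B : Subgroup G}, B ≤ B.comap (MulAut.conj g).toMonoidHom → zpowers g ≤ normalizer (B : Set G) :=
    fun h => zpowers_le.2 (mem_normalizer_fintype fun n hn => h hn)
  have h1 : IsPGroup p (zpowers x ⊔ zpowers c : Subgroup G) := by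
    refine (z hx).to_sup_of_normal_right' (z hc) (nz ?_)
    rw [zpowers_le]
    change x * c * x⁻¹ ∈ zpowers c
    rw [← hcx, mul_inv_cancel_right]
    exact mem_zpowers c
  have h2 : IsPGroup p (zpowers y ⊔ (zpowers x ⊔ zpowers c) : Subgroup G) := by
    refine (z hy).to_sup_of_normal_right' h1 (nz (sup_le ?_ ?_))
    · rw [zpowers_le]
      change y * x * y⁻¹ ∈ zpowers x ⊔ zpowers c
      have e : y * x * y⁻¹ = c⁻¹ * x := by
        calc y * x * y⁻¹ = c⁻¹ * (c * y * x) * y⁻¹ := by group
          _ = c⁻¹ * x := by rw [← h]; group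
      rw [e]
      exact mul_mem (mem_sup_right (inv_mem (mem_zpowers c))) (mem_sup_left (mem_zpowers x))
    · rw [zpowers_le]
      change y * c * y⁻¹ ∈ zpowers x ⊔ zpowers c
      rw [← hcy, mul_inv_cancel_right]
      exact mem_sup_right (mem_zpowers c)
  refine ⟨_, h2, ?_⟩
  have e : c = ⁅x, y⁆ := by
    rw [commutatorElement_def, h]
    group
  rw [e]
  exact commutator_mem_commutator (mem_sup_right (mem_sup_left (mem_zpowers x))) (mem_sup_left (mem_zpowers y))

theorem dvd_of_not_pow_dvd {a p k m : ℕ} (hp : p.Prime) (h : a ∣ p ^ (k + 1) * m) (h1 : ¬ p ^ (k + 1) ∣ a) :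
    a ∣ p ^ k * m := by
  obtain ⟨a1, a2, h2, h3, rfl⟩ := exists_dvd_and_dvd_of_dvd_mul h
  obtain ⟨i, hi, rfl⟩ := (Nat.dvd_prime_pow hp).1 h2
  have h4 : i ≠ k + 1 := by
    rintro rfl
    exact h1 (dvd_mul_right _ _)
  exact Nat.mul_dvd_mul (pow_dvd_pow p (by omega)) h3

/-- a subgroup whose order has the full `p`-part contains a conjugate of every `p`-subgroup -/
theorem exists_conj_le {G : Type*} [Group G] [Finite G] {p k : ℕ} [hp : Fact p.Prime] (H : Subgroup G)
    (h1 : p ^ k ∣ Nat.card H) (h2 : ¬ p ^ (k + 1) ∣ Nat.card G) {P : Subgroup G} (hP : IsPGroup p P) :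
    ∃ g : G, P.map (MulAut.conj g).toMonoidHom ≤ H := by
  obtain ⟨K, hK⟩ := Sylow.exists_subgroup_card_pow_prime p h1
  have hK' : Nat.card (K.map H.subtype) = p ^ k := by rw [card_map_of_injective H.subtype_injective, hK]
  obtain ⟨Q, hQ⟩ := (IsPGroup.of_card hK').exists_le_sylow
  obtain ⟨Q', hQ'⟩ := hP.exists_le_sylow
  obtain ⟨g, hg⟩ := MulAction.exists_smul_eq G Q' Q
  have h3 : (Q : Subgroup G) = K.map H.subtype := by
    symm
    refine eq_of_le_of_card_ge hQ ?_
    obtain ⟨n, hn⟩ := IsPGroup.iff_card.1 Q.isPGroup'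
    rw [hK', hn]
    refine Nat.pow_le_pow_right hp.out.pos ?_
    by_contra hlt
    exact h2 ((pow_dvd_pow p (by omega)).trans (hn ▸ card_subgroup_dvd_card (Q : Subgroup G)))
  refine ⟨g, le_trans ?_ (map_subtype_le K)⟩
  rw [← h3, ← hg]
  exact map_mono hQ'

end Cfsg.Agent.DS.Sp
end

-- part: DS/Lin/Uni
section
set_option linter.all false
open scoped Cfsg.Agent.FastGrp

/-!
# Solvable linear groups of small degree, I: flags (helper19)

`Irr ρ` : the representation `ρ` is irreducible (or zero).  `Uni ρ Y t` : the subgroup `Y` acts trivially on the factors of a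
chain of subspaces of length `t`.  `IB n k` : the `k`-th derived subgroup of a finite solvable group acts trivially on an
irreducible module of dimension `n` over an algebraically closed field; `SB n k` : the same for dimension at most `n` over any
field; `LB n k` : the same for all modules of dimension at most `n` over any field.
-/

set_option autoImplicit false

namespace Cfsg.Agent.DS.Lin

open Cfsg.Agent.H936 Module

section basic

variable {K V X : Type*} [Field K] [AddCommGroup V] [Module K V] [Group X]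

/-- irreducible (or zero) -/
def Irr (ρ : X →* Module.End K V) : Prop :=
  ∀ W : Submodule K V, (∀ x, ∀ v ∈ W, ρ x v ∈ W) → W = ⊥ ∨ W = ⊤

/-- `Y` acts trivially on the factors of a chain of length `t` -/
def Uni (ρ : X →* Module.End K V) (Y : Subgroup X) (t : ℕ) : Prop :=
  ∃ W : ℕ → Submodule K V, W 0 = ⊤ ∧ W t = ⊥ ∧ Antitone W ∧ ∀ j, ∀ y ∈ Y, ∀ v ∈ W j, ρ y v - v ∈ W (j + 1)

theorem Uni.mono {ρ : X →* Module.End K V} {Y Y' : Subgroup X} {t : ℕ} (h : Uni ρ Y t) (hY : Y' ≤ Y) : Uni ρ Y' t := by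
  obtain ⟨W, h0, ht, ha, hW⟩ := h
  exact ⟨W, h0, ht, ha, fun j y hy => hW j y (hY hy)⟩

theorem apply_inv_apply (ρ : X →* Module.End K V) (x : X) (v : V) : ρ x (ρ x⁻¹ v) = v := by
  rw [← Module.End.mul_apply, ← map_mul, mul_inv_cancel, map_one, Module.End.one_apply]

theorem inv_apply_apply (ρ : X →* Module.End K V) (x : X) (v : V) : ρ x⁻¹ (ρ x v) = v := by
  rw [← Module.End.mul_apply, ← map_mul, inv_mul_cancel, map_one, Module.End.one_apply]

theorem apply_mul (ρ : X →* Module.End K V) (x y : X) (v : V) : ρ (x * y) v = ρ x (ρ y v) := by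
  rw [map_mul, Module.End.mul_apply]

/-- the fixed space of a normal subgroup is invariant -/
theorem Irr.eq_one_of_fixed {ρ : X →* Module.End K V} (h : Irr ρ) (Y : Subgroup X) [hY : Y.Normal] {v : V} (hv : v ≠ 0)
    (hf : ∀ y ∈ Y, ρ y v = v) : ∀ y ∈ Y, ρ y = 1 := by
  let W : Submodule K V :=
    { carrier := {w | ∀ y ∈ Y, ρ y w = w}
      add_mem' := fun {a b} ha hb y hy => by rw [map_add, ha y hy, hb y hy]
      zero_mem' := fun y _ => map_zero _
      smul_mem' := fun c a ha y hy => by rw [map_smul, ha y hy] }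
  have hW : ∀ x, ∀ w ∈ W, ρ x w ∈ W := by
    intro x w hw y hy
    have h1 := hw _ (hY.conj_mem' y hy x)
    rw [apply_mul, apply_mul] at h1
    have h2 := congrArg (ρ x) h1
    rwa [apply_inv_apply] at h2
  rcases h W hW with h1 | h1
  · have h2 : v ∈ W := hf
    rw [h1, Submodule.mem_bot] at h2
    exact absurd h2 hv
  · intro y hy
    ext w
    have h2 : w ∈ W := by rw [h1]; trivial
    exact h2 y hy

theorem Uni.eq_one_of_irr {ρ : X →* Module.End K V} {Y : Subgroup X} [Y.Normal] {t : ℕ} (h : Uni ρ Y t) (hi : Irr ρ) :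
    ∀ y ∈ Y, ρ y = 1 := by
  obtain ⟨W, h0, ht, -, hW⟩ := h
  by_cases hf : ∃ v : V, v ≠ 0 ∧ ∀ y ∈ Y, ρ y v = v
  · obtain ⟨v, hv, hf⟩ := hf
    exact hi.eq_one_of_fixed Y hv hf
  · push Not at hf
    have h1 : ∀ i ≤ t, W (t - i) = ⊥ := by
      intro i
      induction i with
      | zero => intro _; exact ht
      | succ i ih =>
        intro hi
        have h2 := ih (by omega)
        rw [eq_bot_iff]
        intro v hv
        rw [Submodule.mem_bot]
        by_contra hv0
        obtain ⟨y, hy, hyv⟩ := hf v hv0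
        have h3 := hW _ y hy v hv
        rw [show t - (i + 1) + 1 = t - i by omega, h2, Submodule.mem_bot, sub_eq_zero] at h3
        exact hyv h3
    have h2 := h1 t le_rfl
    rw [Nat.sub_self, h0] at h2
    intro y _
    ext v
    have h3 : ∀ w : V, w = 0 := fun w => by
      rw [← Submodule.mem_bot K, ← h2]; trivial
    rw [h3 (ρ y v), h3 ((1 : Module.End K V) v)]

/-- the derived series of a group acting trivially on the factors of a chain -/
theorem Uni.eq_one {ρ : X →* Module.End K V} {k t c : ℕ} (h : Uni ρ (derivedSeries X k) t) (hc : t ≤ 2 ^ c) :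
    ∀ x ∈ derivedSeries X (k + c), ρ x = 1 := by
  obtain ⟨W, h0, ht, ha, hW⟩ := h
  have hinv : ∀ j, ∀ y ∈ derivedSeries X k, ∀ v ∈ W j, ρ y v ∈ W j := by
    intro j y hy v hv
    have h1 := (W j).add_mem (ha (Nat.le_succ j) (hW j y hy v hv)) hv
    rwa [sub_add_cancel] at h1
  let Y : ℕ → Subgroup X := fun i =>
    { carrier := {x | x ∈ derivedSeries X k ∧ ∀ j, ∀ v ∈ W j, ρ x v - v ∈ W (j + i)}
      one_mem' := ⟨one_mem _, fun j v _ => by simp⟩
      mul_mem' := by
        rintro a b ⟨ha1, ha2⟩ ⟨hb1, hb2⟩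
        refine ⟨mul_mem ha1 hb1, fun j v hv => ?_⟩
        have h1 := (W (j + i)).add_mem (hinv _ a ha1 _ (hb2 j v hv)) (ha2 j v hv)
        rwa [map_sub, sub_add_sub_cancel, ← apply_mul] at h1
      inv_mem' := by
        rintro a ⟨ha1, ha2⟩
        refine ⟨inv_mem ha1, fun j v hv => ?_⟩
        have h1 := (W (j + i)).neg_mem (hinv _ a⁻¹ (inv_mem ha1) _ (ha2 j v hv))
        rwa [map_sub, inv_apply_apply, neg_sub] at h1 }
  have h1 : ∀ i, derivedSeries X (k + i) ≤ Y (2 ^ i) := by
    intro i
    induction i with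
    | zero => exact fun x hx => ⟨hx, fun j v hv => hW j x hx v hv⟩
    | succ i ih =>
      rw [← add_assoc, derivedSeries_succ, Subgroup.commutator_le]
      intro a ha' b hb'
      obtain ⟨ha1, ha2⟩ := ih ha'
      obtain ⟨hb1, hb2⟩ := ih hb'
      refine ⟨mul_mem (mul_mem (mul_mem ha1 hb1) (inv_mem ha1)) (inv_mem hb1), fun j v hv => ?_⟩
      have h2 : ρ a⁻¹ (ρ b⁻¹ v) ∈ W j := hinv _ _ (inv_mem ha1) _ (hinv _ _ (inv_mem hb1) _ hv)
      set w := ρ a⁻¹ (ρ b⁻¹ v) with hw
      have h3 : v = ρ b (ρ a w) := by rw [hw, apply_inv_apply, apply_inv_apply]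
      have h4 := ha2 _ _ (hb2 j w h2)
      have h5 := hb2 _ _ (ha2 j w h2)
      have h6 := (W (j + 2 ^ i + 2 ^ i)).sub_mem h4 h5
      rw [commutatorElement_def, apply_mul, apply_mul, apply_mul, ← hw, pow_succ, mul_two, ← add_assoc]
      have h7 : ρ a (ρ b w) - v = ρ a (ρ b w - w) - (ρ b w - w) - (ρ b (ρ a w - w) - (ρ a w - w)) := by
        rw [map_sub, map_sub, ← h3]; abel
      rw [h7]
      exact h6
  intro x hx
  ext v
  have h2 := (h1 c hx).2 0 v (by rw [h0]; trivial)
  have h3 := ha (show t ≤ 0 + 2 ^ c by omega) h2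
  rwa [ht, Submodule.mem_bot, sub_eq_zero] at h3

/-- restriction to an invariant subspace -/
def res (ρ : X →* Module.End K V) (W : Submodule K V) (hW : ∀ x, ∀ v ∈ W, ρ x v ∈ W) : X →* Module.End K W where
  toFun x := (ρ x).restrict (hW x)
  map_one' := by ext v; simp
  map_mul' x y := by ext v; simp

theorem res_apply (ρ : X →* Module.End K V) (W : Submodule K V) (hW : ∀ x, ∀ v ∈ W, ρ x v ∈ W) (x : X) (v : W) :
    (res ρ W hW x v : V) = ρ x v := rfl

/-- the quotient by an invariant subspace -/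
def quo (ρ : X →* Module.End K V) (W : Submodule K V) (hW : ∀ x, ∀ v ∈ W, ρ x v ∈ W) : X →* Module.End K (V ⧸ W) where
  toFun x := W.mapQ W (ρ x) (hW x)
  map_one' := by ext v; simp
  map_mul' x y := by ext v; simp

theorem quo_apply (ρ : X →* Module.End K V) (W : Submodule K V) (hW : ∀ x, ∀ v ∈ W, ρ x v ∈ W) (x : X) (v : V) :
    quo ρ W hW x (W.mkQ v) = W.mkQ (ρ x v) := rfl

/-- a minimal invariant subspace -/
theorem exists_min [FiniteDimensional K V] [Nontrivial V] {ι : Type*} (f : ι → Module.End K V) :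
    ∃ W : Submodule K V, W ≠ ⊥ ∧ (∀ x, ∀ v ∈ W, f x v ∈ W) ∧
      ∀ W' ≤ W, (∀ x, ∀ v ∈ W', f x v ∈ W') → W' = ⊥ ∨ W' = W := by
  obtain ⟨W, ⟨h0, hW⟩, hmin⟩ := WellFounded.has_min (wellFounded_lt (α := Submodule K V))
    {W : Submodule K V | W ≠ ⊥ ∧ ∀ x, ∀ v ∈ W, f x v ∈ W} ⟨⊤, top_ne_bot, fun _ _ _ => trivial⟩
  refine ⟨W, h0, hW, fun W' hle hW' => ?_⟩
  by_cases h : W' = ⊥
  · exact Or.inl h
  · exact Or.inr (eq_of_le_of_not_lt hle (hmin W' ⟨h, hW'⟩))

theorem irr_res {ρ : X →* Module.End K V} {W : Submodule K V} (hW : ∀ x, ∀ v ∈ W, ρ x v ∈ W)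
    (hmin : ∀ W' ≤ W, (∀ x, ∀ v ∈ W', ρ x v ∈ W') → W' = ⊥ ∨ W' = W) : Irr (res ρ W hW) := by
  intro U hU
  rcases hmin (U.map W.subtype) (Submodule.map_subtype_le W U) (by
    rintro x _ ⟨u, hu, rfl⟩
    exact ⟨_, hU x u hu, rfl⟩) with h | h
  · left
    apply Submodule.map_injective_of_injective W.injective_subtype
    rw [h, Submodule.map_bot]
  · right
    apply Submodule.map_injective_of_injective W.injective_subtype
    rw [h, Submodule.map_subtype_top]

end basic

/-- irreducible modules of dimension `n` over algebraically closed fields -/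
def IB (n k : ℕ) : Prop :=
  ∀ (K V X : Type) [Field K] [IsAlgClosed K] [AddCommGroup V] [Module K V] [FiniteDimensional K V] [Group X] [Finite X],
    Group.IsSolvable X → ∀ ρ : X →* Module.End K V, Irr ρ → finrank K V = n → ∀ x ∈ derivedSeries X k, ρ x = 1

/-- irreducible modules of dimension at most `n` over any field -/
def SB (n k : ℕ) : Prop :=
  ∀ (K V X : Type) [Field K] [AddCommGroup V] [Module K V] [FiniteDimensional K V] [Group X] [Finite X],
    Group.IsSolvable X → ∀ ρ : X →* Module.End K V, Irr ρ → finrank K V ≤ n → ∀ x ∈ derivedSeries X k, ρ x = 1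

/-- all modules of dimension at most `n` over any field -/
def LB (n k : ℕ) : Prop :=
  ∀ (K V X : Type) [Field K] [AddCommGroup V] [Module K V] [FiniteDimensional K V] [Group X] [Finite X],
    Group.IsSolvable X → ∀ ρ : X →* Module.End K V, finrank K V ≤ n → ∀ x ∈ derivedSeries X k, ρ x = 1

theorem IB.mono {n k m : ℕ} (h : IB n k) (hm : k ≤ m) : IB n m :=
  fun K V X _ _ _ _ _ _ _ hX ρ hi hn x hx => h K V X hX ρ hi hn x (derivedSeries_antitone X hm hx)

theorem SB.mono {n k n' m : ℕ} (h : SB n k) (hn' : n' ≤ n) (hm : k ≤ m) : SB n' m :=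
  fun K V X _ _ _ _ _ _ hX ρ hi hn x hx => h K V X hX ρ hi (hn.trans hn') x (derivedSeries_antitone X hm hx)

theorem LB.mono {n k n' m : ℕ} (h : LB n k) (hn' : n' ≤ n) (hm : k ≤ m) : LB n' m :=
  fun K V X _ _ _ _ _ _ hX ρ hn x hx => h K V X hX ρ (hn.trans hn') x (derivedSeries_antitone X hm hx)

/-- composition series -/
theorem flag_closed {N : ℕ} {τ : ℕ → ℕ} (hτ : Monotone τ) (hI : ∀ m, 1 ≤ m → m ≤ N → IB m (τ m))
    {K X : Type} [Field K] [IsAlgClosed K] [Group X] [Finite X] (hX : Group.IsSolvable X) (n : ℕ) :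
    ∀ (V : Type) [AddCommGroup V] [Module K V] [FiniteDimensional K V] (ρ : X →* Module.End K V), finrank K V = n → n ≤ N →
      ∃ m t, 1 ≤ m ∧ m ≤ max n 1 ∧ t + m ≤ n + 1 ∧ Uni ρ (derivedSeries X (τ m)) t := by
  induction n using Nat.strong_induction_on with
  | _ n ih =>
    intro V _ _ _ ρ hn hN
    rcases subsingleton_or_nontrivial V with hV | hV
    · refine ⟨1, 0, le_rfl, le_max_right _ _, by omega, fun _ => ⊤, rfl, Subsingleton.elim _ _, fun _ _ _ => le_rfl,
        fun _ _ _ _ _ => trivial⟩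
    obtain ⟨W, h0, hW, hmin⟩ := exists_min (fun x => ρ x)
    have h1 : 1 ≤ finrank K W := Submodule.one_le_finrank_iff.2 h0
    have h2 : finrank K (V ⧸ W) + finrank K W = n := by rw [← hn]; exact W.finrank_quotient_add_finrank
    obtain ⟨m, t, hm1, hm2, hm3, U, u0, ut, ua, hU⟩ := ih _ (by omega) (V ⧸ W) (quo ρ W hW) rfl (by omega)
    have h3 := hI _ h1 (by omega) K W X hX (res ρ W hW) (irr_res hW hmin) rfl
    refine ⟨max m (finrank K W), t + 1, le_max_of_le_left hm1, by omega, by omega,
      fun j => if j ≤ t then (U j).comap W.mkQ else ⊥, ?_, ?_, ?_, ?_⟩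
    · simp [u0]
    · simp
    · intro i j hij
      dsimp only
      split_ifs with h4 h5
      · exact Submodule.comap_mono (ua hij)
      · omega
      · exact bot_le
      · exact le_rfl
    · intro j y hy v hv
      dsimp only at hv ⊢
      by_cases h4 : j + 1 ≤ t
      · rw [if_pos (by omega)] at hv
        rw [if_pos h4, Submodule.mem_comap, map_sub, ← quo_apply ρ W hW]
        exact hU j y (derivedSeries_antitone X (hτ (le_max_left _ _)) hy) _ hv
      rw [if_neg h4]
      by_cases h5 : j ≤ t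
      · obtain rfl : j = t := by omega
        rw [if_pos h5, ut, Submodule.comap_bot, Submodule.ker_mkQ] at hv
        have h6 := h3 y (derivedSeries_antitone X (hτ (le_max_right _ _)) hy)
        have h7 := res_apply ρ W hW y ⟨v, hv⟩
        rw [h6] at h7
        rw [Submodule.mem_bot, sub_eq_zero]
        exact h7.symm
      · rw [if_neg h5, Submodule.mem_bot] at hv
        rw [hv, map_zero, sub_zero, Submodule.mem_bot]

open TensorProduct in
/-- composition series after extension of scalars -/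
theorem flag {N : ℕ} {τ : ℕ → ℕ} (hτ : Monotone τ) (hI : ∀ m, 1 ≤ m → m ≤ N → IB m (τ m))
    {F X : Type} [Field F] [Group X] [Finite X] (hX : Group.IsSolvable X)
    {V : Type} [AddCommGroup V] [Module F V] [FiniteDimensional F V] (ρ : X →* Module.End F V) (hN : finrank F V ≤ N) :
    ∃ m t, 1 ≤ m ∧ m ≤ max (finrank F V) 1 ∧ t + m ≤ finrank F V + 1 ∧ Uni ρ (derivedSeries X (τ m)) t := by
  let K := AlgebraicClosure F
  let ρ' : X →* Module.End K (K ⊗[F] V) := (Module.End.baseChangeHom F K V).toMonoidHom.comp ρ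
  obtain ⟨m, t, h1, h2, h3, U, u0, ut, ua, hU⟩ := flag_closed hτ hI hX _ (K ⊗[F] V) ρ' Module.finrank_baseChange hN
  refine ⟨m, t, h1, h2, h3, fun j => ((U j).restrictScalars F).comap (TensorProduct.mk F K V 1), ?_, ?_, ?_, ?_⟩
  · simp [u0]
  · dsimp only
    rw [ut, Submodule.restrictScalars_bot, Submodule.comap_bot, LinearMap.ker_eq_bot]
    exact Module.Flat.tensorProduct_mk_injective F V K
  · exact fun i j hij v hv => ua hij hv
  · intro j y hy v hv
    have h4 := hU j y hy _ hv
    rw [Submodule.mem_comap, map_sub]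
    exact h4

theorem sb_of {N : ℕ} {τ : ℕ → ℕ} (hτ : Monotone τ) (h1 : 1 ≤ N) (hI : ∀ m, 1 ≤ m → m ≤ N → IB m (τ m)) : SB N (τ N) := by
  intro F V X _ _ _ _ _ _ hX ρ hi hn
  obtain ⟨m, t, -, h2, -, hU⟩ := flag hτ hI hX ρ hn
  exact (hU.mono (derivedSeries_antitone X (hτ (by omega)))).eq_one_of_irr hi

theorem lb_of {N k : ℕ} {τ : ℕ → ℕ} (hτ : Monotone τ) (h1 : 1 ≤ N) (hI : ∀ m, 1 ≤ m → m ≤ N → IB m (τ m))
    (hk : ∀ m ≤ N, 1 ≤ m → τ m ≤ k ∧ N + 1 - m ≤ 2 ^ (k - τ m)) : LB N k := by
  intro F V X _ _ _ _ _ _ hX ρ hn x hx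
  obtain ⟨m, t, h0, h2, h3, hU⟩ := flag hτ hI hX ρ hn
  obtain ⟨h4, h5⟩ := hk m (by omega) h0
  refine hU.eq_one (c := k - τ m) (by omega) x ?_
  rwa [Nat.add_sub_cancel' h4]

end Cfsg.Agent.DS.Lin
end

-- part: DS/Lin/Main
section
prune_inst 0x200030043000000000040010000000211000000000000000000000000001004000000040020004020002000000010000008000000000000000000000000000000000040082080008000000000000000000000000000000000000000000000000000000000
set_option linter.all false
open scoped Cfsg.Agent.FastGrp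

-- part: DS/Lin/Imp
section
/-!
# Solvable linear groups of small degree, II: weight spaces and the imprimitive case (helper19)
-/

set_option autoImplicit false
set_option maxHeartbeats 400000

namespace Cfsg.Agent.DS.Lin

open Cfsg.Agent.H936 Module

section weights

variable {K V : Type*} [Field K] [AddCommGroup V] [Module K V] {ι : Type*}

/-- a common eigenvector -/
theorem exists_eigen [IsAlgClosed K] [FiniteDimensional K V] [Nontrivial V] (f : ι → Module.End K V)
    (hc : ∀ i j, f i * f j = f j * f i) : ∃ v : V, v ≠ 0 ∧ ∃ χ : ι → K, ∀ i, f i v = χ i • v := by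
  obtain ⟨W, h0, hW, hmin⟩ := exists_min f
  have hN : Nontrivial W := Submodule.nontrivial_iff_ne_bot.2 h0
  have h1 : ∀ i, ∃ c : K, ∀ v ∈ W, f i v = c • v := by
    intro i
    obtain ⟨c, hc'⟩ := Module.End.exists_eigenvalue ((f i).restrict (hW i))
    obtain ⟨w, hw⟩ := hc'.exists_hasEigenvector
    refine ⟨c, fun v hv => ?_⟩
    rcases hmin (W ⊓ (f i).eigenspace c) inf_le_left (by
      rintro j u ⟨hu1, hu2⟩
      refine ⟨hW j u hu1, ?_⟩
      rw [SetLike.mem_coe, Module.End.mem_eigenspace_iff] at hu2 ⊢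
      rw [← Module.End.mul_apply, hc, Module.End.mul_apply, hu2, map_smul]) with h | h
    · exfalso
      have h2 : (w : V) ∈ W ⊓ (f i).eigenspace c := by
        refine ⟨w.2, ?_⟩
        rw [SetLike.mem_coe, Module.End.mem_eigenspace_iff]
        exact congrArg Subtype.val hw.apply_eq_smul
      rw [h, Submodule.mem_bot] at h2
      exact hw.2 (Subtype.ext h2)
    · rw [← h] at hv
      exact Module.End.mem_eigenspace_iff.1 hv.2
  choose χ hχ using h1
  obtain ⟨v, hv, hv0⟩ := Submodule.exists_mem_ne_zero_of_ne_bot h0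
  exact ⟨v, hv0, χ, fun i => hχ i v hv⟩

/-- the weight space -/
def wt (f : ι → Module.End K V) (χ : ι → K) : Submodule K V := ⨅ i, (f i).eigenspace (χ i)

theorem mem_wt {f : ι → Module.End K V} {χ : ι → K} {v : V} : v ∈ wt f χ ↔ ∀ i, f i v = χ i • v := by
  simp only [wt, Submodule.mem_iInf, Module.End.mem_eigenspace_iff]

theorem wt_indep (f : ι → Module.End K V) (hc : ∀ i j, f i * f j = f j * f i) : iSupIndep (wt f) := by
  refine (Module.End.independent_iInf_maxGenEigenspace_of_forall_mapsTo f fun i j φ =>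
    Module.End.mapsTo_maxGenEigenspace_of_comm (hc j i) φ).mono fun χ => ?_
  exact iInf_mono fun i => (f i).eigenspace_le_maxGenEigenspace

theorem card_mul_le [FiniteDimensional K V] {κ : Type*} {E : κ → Submodule K V} (hE : iSupIndep E) {a : ℕ} (S : Finset κ)
    (h : ∀ χ ∈ S, a ≤ finrank K (E χ)) : S.card * a ≤ finrank K V := by
  classical
  refine le_trans ?_ (Submodule.finrank_le (S.sup E))
  induction S using Finset.induction_on with
  | empty => simp
  | insert χ S hχ ih =>
    have h1 := ih fun ψ hψ => h ψ (Finset.mem_insert_of_mem hψ)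
    have h2 := h χ (Finset.mem_insert_self _ _)
    have h3 : Disjoint (E χ) (S.sup E) := by
      rw [Finset.sup_eq_iSup]
      exact hE.disjoint_biSup (y := (S : Set κ)) hχ
    rw [Finset.card_insert_of_notMem hχ, Finset.sup_insert]
    have h4 := Submodule.finrank_sup_add_finrank_inf_eq (E χ) (S.sup E)
    rw [h3.eq_bot, finrank_bot] at h4
    linarith only [h1, h2, h4]

theorem ncard_mul_le [FiniteDimensional K V] {κ : Type*} {E : κ → Submodule K V} (hE : iSupIndep E) {a : ℕ} {S : Set κ}
    (hS : S.Finite) (h : ∀ χ ∈ S, a ≤ finrank K (E χ)) : S.ncard * a ≤ finrank K V := by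
  rw [Set.ncard_eq_toFinset_card S hS]
  exact card_mul_le hE _ fun χ hχ => h χ (hS.mem_toFinset.1 hχ)

end weights

/-- the action on the functions on a normal subgroup -/
@[reducible] def cAct {X : Type*} [Group X] (N : Subgroup X) [N.Normal] (K : Type*) : MulAction X (N → K) where
  smul g χ := fun a => χ (MulAut.conjNormal g⁻¹ a)
  one_smul χ := by
    funext a
    change χ (MulAut.conjNormal (1 : X)⁻¹ a) = χ a
    simp
  mul_smul g h χ := by
    funext a
    change χ (MulAut.conjNormal (g * h)⁻¹ a) = χ (MulAut.conjNormal h⁻¹ (MulAut.conjNormal g⁻¹ a))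
    simp only [_root_.mul_inv_rev, _root_.map_mul, _root_.map_inv, _root_.MulAut.mul_apply, _root_.MulAut.inv_apply]

/-- the imprimitive case -/
theorem imp_case {K V X : Type} [Field K] [IsAlgClosed K] [AddCommGroup V] [Module K V] [FiniteDimensional K V] [Nontrivial V]
    [Group X] [Finite X] (hX : Group.IsSolvable X) {ρ : X →* Module.End K V} (hi : Irr ρ) (h24 : finrank K V ≤ 24)
    (N : Subgroup X) [N.Normal] (hc : ∀ a ∈ N, ∀ b ∈ N, ρ a * ρ b = ρ b * ρ a) (hs : ¬ ∀ a ∈ N, ∃ c : K, ∀ v, ρ a v = c • v) :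
    ∃ t a, 2 ≤ t ∧ 1 ≤ a ∧ t * a ≤ finrank K V ∧ ∀ s k, (∀ m ≤ t, Gen.sTab m ≤ s) → LB a k →
      ∀ x ∈ derivedSeries X (s + k), ρ x = 1 := by
  let _ := cAct N K
  let f : N → Module.End K V := fun a => ρ a
  have hf : ∀ i j, f i * f j = f j * f i := fun i j => hc i i.2 j j.2
  obtain ⟨v, hv, χ, hχ⟩ := exists_eigen f hf
  have hm : ∀ (g : X) (ψ : N → K), ∀ w ∈ wt f ψ, ρ g w ∈ wt f (g • ψ) := by
    intro g ψ w hw
    rw [mem_wt] at hw ⊢
    intro a
    have h1 := hw (MulAut.conjNormal g⁻¹ a)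
    have h2 : f (MulAut.conjNormal g⁻¹ a) w = ρ g⁻¹ (ρ a (ρ g w)) := by
      simp only [f, MulAut.conjNormal_apply, inv_inv, apply_mul]
    have h3 := congrArg (ρ g) h1
    rw [h2, apply_inv_apply, map_smul] at h3
    exact h3
  have hv' : v ∈ wt f χ := mem_wt.2 hχ
  have ha : 1 ≤ finrank K (wt f χ) := by
    refine Submodule.one_le_finrank_iff.2 fun h => hv ?_
    rwa [h, Submodule.mem_bot] at hv'
  have hle : (MulAction.orbit X χ).ncard * finrank K (wt f χ) ≤ finrank K V := by
    refine ncard_mul_le (wt_indep f hf) (Set.finite_range _) ?_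
    rintro _ ⟨g, rfl⟩
    refine LinearMap.finrank_le_finrank_of_injective (f := (ρ g).restrict (hm g χ)) fun a b hab => Subtype.ext ?_
    have h1 := congrArg (fun z : wt f (g • χ) => ρ g⁻¹ (z : V)) hab
    simpa only [LinearMap.coe_restrict_apply, inv_apply_apply] using h1
  refine ⟨(MulAction.orbit X χ).ncard, finrank K (wt f χ), ?_, ha, hle, fun s k hs' hk => ?_⟩
  · by_contra h
    have h1 : ∀ g : X, g • χ = χ := fun g =>
      (Set.ncard_le_one (s := MulAction.orbit X χ) (Set.finite_range _)).1 (by omega) _ (MulAction.mem_orbit χ g) _ (MulAction.mem_orbit_self χ)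
    rcases hi (wt f χ) (fun g w hw => by simpa only [h1] using hm g χ w hw) with h2 | h2
    · rw [h2, Submodule.mem_bot] at hv'
      exact hv hv'
    · refine hs fun a ha' => ⟨χ ⟨a, ha'⟩, fun w => ?_⟩
      have h3 : w ∈ wt f χ := by rw [h2]; trivial
      exact mem_wt.1 h3 ⟨a, ha'⟩
  · have h1 : ∀ x ∈ derivedSeries X s, x • χ = χ := fun x hx =>
      Gen.smul_eq_of_orbit (n := (MulAction.orbit X χ).ncard) (by nlinarith) hs' hX le_rfl hx
    have h2 : ∀ y : derivedSeries X s, ∀ w ∈ wt f χ, (ρ.comp (derivedSeries X s).subtype) y w ∈ wt f χ := by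
      intro y w hw
      have h0 := hm y χ w hw
      rw [h1 y y.2] at h0
      exact h0
    have h3 := hk K (wt f χ) (derivedSeries X s) inferInstance (res _ _ h2) le_rfl
    refine hi.eq_one_of_fixed _ hv fun y hy => ?_
    obtain ⟨z, hz, rfl⟩ := derivedSeries_add_le (le_refl (derivedSeries X s)) k hy
    have h4 := res_apply _ _ h2 z ⟨v, hv'⟩
    rw [h3 z hz] at h4
    exact h4.symm

end Cfsg.Agent.DS.Lin
end

-- part: DS/Lin/Form
section
/-!
# Solvable linear groups of small degree, III: alternating forms on finite abelian groups (helper19)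
-/

set_option autoImplicit false
set_option maxHeartbeats 400000

namespace Cfsg.Agent.DS.Lin

open Module

/-- an alternating bimultiplicative map -/
structure Alt {E K : Type*} [AddCommGroup E] [Field K] (f : E → E → K) : Prop where
  right : ∀ u w w', f u (w + w') = f u w * f u w'
  left : ∀ u u' w, f (u + u') w = f u w * f u' w
  self : ∀ u, f u u = 1

namespace Alt

variable {E K : Type*} [AddCommGroup E] [Field K] {f : E → E → K}

theorem zero_right (h : Alt f) (u : E) : f u 0 = 1 := by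
  have h1 := h.right u u 0
  rwa [add_zero, h.self, one_mul, eq_comm] at h1

theorem zero_left (h : Alt f) (u : E) : f 0 u = 1 := by
  have h1 := h.left u 0 u
  rwa [add_zero, h.self, one_mul, eq_comm] at h1

theorem ne_zero (h : Alt f) (u w : E) : f u w ≠ 0 := by
  intro h0
  have h1 := h.right u w (-w)
  rw [add_neg_cancel, h.zero_right, h0, zero_mul] at h1
  exact one_ne_zero h1

theorem sub_right (h : Alt f) {u w w' : E} (e : f u w = f u w') : f u (w - w') = 1 := by
  have h1 := h.right u (w - w') w'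
  rw [sub_add_cancel, e] at h1
  exact (mul_eq_right₀ (h.ne_zero u w')).1 h1.symm

theorem sub_left (h : Alt f) {u u' w : E} (e : f u w = f u' w) : f (u - u') w = 1 := by
  have h1 := h.left (u - u') u' w
  rw [sub_add_cancel, e] at h1
  exact (mul_eq_right₀ (h.ne_zero u' w)).1 h1.symm

theorem symm (h : Alt f) {u w : E} (e : f u w = 1) : f w u = 1 := by
  have h1 := h.self (u + w)
  rwa [h.left, h.right, h.right, h.self, h.self, e, one_mul, one_mul, mul_one] at h1

/-- the orthogonal complement -/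
def perp (h : Alt f) (S : Set E) : AddSubgroup E where
  carrier := {w | ∀ u ∈ S, f u w = 1}
  add_mem' := fun {a b} ha hb u hu => by rw [h.right, ha u hu, hb u hu, one_mul]
  zero_mem' := fun u _ => h.zero_right u
  neg_mem' := fun {a} ha u hu => by
    have h1 := h.sub_right (u := u) (w := 0) (w' := a) (by rw [h.zero_right, ha u hu])
    rwa [zero_sub] at h1

theorem exists_max [Finite E] (h : Alt f) : ∃ B : AddSubgroup E, (∀ u ∈ B, ∀ w ∈ B, f u w = 1) ∧
    ∀ w, (∀ u ∈ B, f u w = 1) → w ∈ B := by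
  obtain ⟨B, hB, hmax⟩ := WellFounded.has_min (wellFounded_gt (α := AddSubgroup E))
    {B : AddSubgroup E | ∀ u ∈ B, ∀ w ∈ B, f u w = 1} ⟨⊥, fun u hu w _ => by
      rw [AddSubgroup.mem_bot.1 hu, h.zero_left]⟩
  refine ⟨B, hB, fun w hw => ?_⟩
  have h1 : ∀ u ∈ B ⊔ AddSubgroup.zmultiples w, u ∈ h.perp B ∧ f w u = 1 := by
    intro u hu
    have h2 : B ⊔ AddSubgroup.zmultiples w ≤ h.perp B ⊓ h.perp {w} := by
      refine sup_le (fun b hb => ⟨fun b' hb' => hB b' hb' b hb, ?_⟩) ((AddSubgroup.zmultiples_le).2 ⟨hw, ?_⟩)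
      · rintro _ rfl
        exact h.symm (hw b hb)
      · rintro _ rfl
        exact h.self _
    exact ⟨(h2 hu).1, (h2 hu).2 w rfl⟩
  have h2 : ∀ u ∈ B ⊔ AddSubgroup.zmultiples w, ∀ u' ∈ B ⊔ AddSubgroup.zmultiples w, f u u' = 1 := by
    intro u hu u' hu'
    have h3 : B ⊔ AddSubgroup.zmultiples w ≤ h.perp {u} := by
      refine sup_le (fun b hb => ?_) ((AddSubgroup.zmultiples_le).2 ?_)
      · rintro _ rfl
        exact h.symm ((h1 _ hu).1 b hb)
      · rintro _ rfl
        exact h.symm (h1 _ hu).2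
    exact h3 hu' u rfl
  have h3 : B = B ⊔ AddSubgroup.zmultiples w := eq_of_le_of_not_lt le_sup_left (hmax _ h2)
  rw [h3]
  exact AddSubgroup.mem_sup_right (AddSubgroup.mem_zmultiples w)

theorem card_le_index [Finite E] (h : Alt f) (hn : ∀ u, (∀ w, f u w = 1) → u = 0) {B : AddSubgroup E}
    (hB : ∀ u ∈ B, ∀ w ∈ B, f u w = 1) : Nat.card B ≤ B.index := by
  classical
  let φ : B → Multiplicative (E ⧸ B) →* K := fun b =>
    { toFun := fun q => Quotient.liftOn' q.toAdd (fun w => f b w) (by
        intro w w' hw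
        rw [QuotientAddGroup.leftRel_apply] at hw
        have h1 := h.right b w (-w + w')
        rwa [hB _ b.2 _ hw, mul_one, add_neg_cancel_left, eq_comm] at h1)
      map_one' := h.zero_right _
      map_mul' := by
        intro q q'
        obtain ⟨w, hw⟩ := QuotientAddGroup.mk_surjective q.toAdd
        obtain ⟨w', hw'⟩ := QuotientAddGroup.mk_surjective q'.toAdd
        rw [toAdd_mul, ← hw, ← hw']
        exact h.right b w w' }
  have h1 : Function.Injective φ := by
    intro b b' e
    apply Subtype.ext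
    rw [← sub_eq_zero]
    refine hn _ fun w => h.sub_left ?_
    exact DFunLike.congr_fun e (Multiplicative.ofAdd (w : E ⧸ B))
  have h2 := ((linearIndependent_monoidHom (Multiplicative (E ⧸ B)) K).comp φ h1)
  have := Fintype.ofFinite B
  have := Fintype.ofFinite (E ⧸ B)
  have h3 := h2.fintype_card_le_finrank
  rw [Module.finrank_fintype_fun_eq_card, Fintype.card_multiplicative] at h3
  rw [AddSubgroup.index, Nat.card_eq_fintype_card, Nat.card_eq_fintype_card]
  exact h3

/-- the order of a group of symplectic type is bounded by the degree -/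
theorem card_le [Finite E] [IsAlgClosed K] (h : Alt f) (hn : ∀ u, (∀ w, f u w = 1) → u = 0) {V : Type*} [AddCommGroup V]
    [Module K V] [FiniteDimensional K V] [Nontrivial V] (T : E → Module.End K V) (hT : ∀ u, Function.Injective (T u))
    (hc : ∀ u w, T u * T w = f u w • (T w * T u)) :
    ∃ t, t ≤ finrank K V ∧ t ∣ Nat.card E ∧ Nat.card E ≤ t * t := by
  obtain ⟨B, hB, hmax⟩ := h.exists_max
  refine ⟨B.index, ?_, B.index_dvd_card, ?_⟩
  · let g : B → Module.End K V := fun b => T b
    have hg : ∀ i j, g i * g j = g j * g i := fun i j => by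
      simp only [g]
      rw [hc, hB _ i.2 _ j.2, one_smul]
    obtain ⟨v, hv, χ, hχ⟩ := exists_eigen g hg
    have h0 : ∀ u (x : V), T u x = 0 → x = 0 := fun u x hx => hT u (by rw [hx, map_zero])
    let ψ : E ⧸ B → B → K := fun q b => f b q.out * χ b
    have h1 : Function.Injective ψ := by
      intro q q' e
      rw [← q.out_eq', ← q'.out_eq', QuotientAddGroup.eq, neg_add_eq_sub]
      refine hmax _ fun u hu => h.sub_right ?_
      have h2 : χ ⟨u, hu⟩ ≠ 0 := fun h3 => hv (h0 u v (by
        have h4 := hχ ⟨u, hu⟩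
        rwa [h3, zero_smul] at h4))
      exact (mul_right_cancel₀ h2 (congrFun e ⟨u, hu⟩)).symm
    have h2 := ncard_mul_le (wt_indep g hg) (a := 1) (Set.finite_range ψ) (by
      rintro _ ⟨q, rfl⟩
      refine Submodule.one_le_finrank_iff.2 fun h3 => hv (h0 q.out v ?_)
      rw [← Submodule.mem_bot K, ← h3, mem_wt]
      intro b
      have h4 := LinearMap.congr_fun (hc b q.out) v
      rw [Module.End.mul_apply, LinearMap.smul_apply, Module.End.mul_apply] at h4
      have h5 : T b v = χ b • v := hχ b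
      rw [h5, map_smul, smul_smul] at h4
      exact h4)
    rwa [mul_one, Set.ncard_range_of_injective h1] at h2
  · rw [← B.card_mul_index]
    exact Nat.mul_le_mul_right _ (h.card_le_index hn hB)

theorem card_le_three [Finite E] (h9 : Nat.card E ∣ 9) {F : AddSubgroup E} (hF : F ≠ ⊤) : Nat.card F ≤ 3 := by
  have h1 := F.card_mul_index
  have h2 : 1 < F.index := AddSubgroup.one_lt_index_of_ne_top hF
  have h3 : F.index ∣ 9 := F.index_dvd_card.trans h9
  have h4 := Nat.le_of_dvd (by norm_num) h3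
  have h5 := Nat.le_of_dvd (by norm_num) h9
  have h6 : 3 ≤ F.index := by
    by_contra h7
    have h8 : F.index = 2 := by omega
    rw [h8] at h3
    omega
  nlinarith

/-- `SL₂(3)` has order `24` -/
theorem card_le_24 [Finite E] (h : Alt f) (h9 : Nat.card E ∣ 9) {a b : E} (hab : f a b ≠ 1) {Y : Type*} [Group Y] [Finite Y]
    [DistribMulAction Y E] (hf : ∀ y : Y, (∀ u : E, y • u = u) → y = 1) (hY : ∀ (y : Y) u w, f (y • u) (y • w) = f u w) :
    Nat.card Y ≤ 24 := by
  classical
  have := Fintype.ofFinite Y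
  have := Fintype.ofFinite E
  have ha : a ≠ 0 := by
    rintro rfl
    exact hab (h.zero_left b)
  have h1 : ∀ y : Y, y • a = a → y • b = b → y = 1 := by
    intro y hya hyb
    let F : AddSubgroup E :=
      { carrier := {u | y • u = u}
        add_mem' := fun {u w} hu hw => by
          change y • (u + w) = u + w
          rw [smul_add, hu, hw]
        zero_mem' := smul_zero y
        neg_mem' := fun {u} hu => by
          change y • (-u) = -u
          rw [smul_neg, hu] }
    by_cases hF : F = ⊤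
    · refine hf y fun u => ?_
      have h2 : u ∈ F := by rw [hF]; trivial
      exact h2
    exfalso
    have h2 := card_le_three h9 hF
    have h3 : Nat.card (F ⊓ h.perp {a} : AddSubgroup E) ∣ Nat.card F := AddSubgroup.card_dvd_of_le inf_le_left
    have h4 : Nat.card (F ⊓ h.perp {a} : AddSubgroup E) ≠ 1 := by
      rw [Ne, AddSubgroup.card_eq_one]
      intro h5
      have h6 : a ∈ F ⊓ h.perp {a} := ⟨hya, by rintro _ rfl; exact h.self _⟩
      rw [h5, AddSubgroup.mem_bot] at h6
      exact ha h6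
    have h5 : Nat.card (F ⊓ h.perp {a} : AddSubgroup E) ≠ Nat.card F := by
      intro h6
      have h7 := AddSubgroup.eq_of_le_of_card_ge (inf_le_left : F ⊓ h.perp {a} ≤ F) h6.ge
      have h8 : b ∈ F ⊓ h.perp {a} := by rw [h7]; exact hyb
      exact hab (h8.2 a rfl)
    have h6 : 0 < Nat.card F := Nat.card_pos
    have h7 := Nat.le_of_dvd h6 h3
    generalize Nat.card (F ⊓ h.perp {a} : AddSubgroup E) = c at h3 h4 h5 h7
    generalize Nat.card F = d at h2 h3 h5 h6 h7
    interval_cases d <;> interval_cases c <;> omega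
  have h2 := Finset.card_le_mul_card_image_of_maps_to (s := (Finset.univ : Finset Y)) (t := Finset.univ.erase (0 : E))
    (f := fun y => y • a) (fun y _ => Finset.mem_erase.2 ⟨(smul_ne_zero_iff_ne y).2 ha, Finset.mem_univ _⟩) 3 (by
      intro u _
      by_cases h3 : ∃ y₀ : Y, y₀ • a = u
      · obtain ⟨y₀, rfl⟩ := h3
        have h4 : h.perp {y₀ • a} ≠ ⊤ := by
          intro h5
          have h6 : y₀ • b ∈ h.perp {y₀ • a} := by rw [h5]; trivial
          exact hab (by rw [← hY y₀]; exact h6 _ rfl)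
        refine le_trans ?_ (card_le_three h9 h4)
        rw [← Nat.card_eq_finsetCard]
        refine Nat.card_le_card_of_injective (fun y => ⟨y.1 • b - y₀ • b, ?_⟩) ?_
        · rintro _ rfl
          refine h.sub_right ?_
          have h5 := hY y.1 a b
          rw [(Finset.mem_filter.1 y.2).2] at h5
          rw [hY y₀, h5]
        · intro y y' e
          have e1 : y.1 • b = y'.1 • b := sub_left_injective (congrArg Subtype.val e)
          have e2 : y.1 • a = y'.1 • a := (Finset.mem_filter.1 y.2).2.trans (Finset.mem_filter.1 y'.2).2.symm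
          apply Subtype.ext
          rw [← inv_mul_eq_one]
          exact h1 _ (by rw [mul_smul, ← e2, inv_smul_smul]) (by rw [mul_smul, ← e1, inv_smul_smul])
      · rw [Finset.card_eq_zero.2]
        · norm_num
        · rw [Finset.filter_eq_empty_iff]
          exact fun y _ e => h3 ⟨y, e⟩)
  rw [Finset.card_erase_of_mem (Finset.mem_univ _), Finset.card_univ, Finset.card_univ, ← Nat.card_eq_fintype_card,
    ← Nat.card_eq_fintype_card] at h2
  have h3 := Nat.le_of_dvd (by norm_num) h9
  omega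

end Alt

end Cfsg.Agent.DS.Lin
end

-- part: DS/Lin/Prim
section
/-!
# Solvable linear groups of small degree, IV: the primitive case (helper19)
-/

set_option autoImplicit false
set_option maxHeartbeats 400000

namespace Cfsg.Agent.DS.Lin

open Module Cfsg.Agent.H511
open scoped commutatorElement

section tw

variable {K V X : Type*} [Field K] [AddCommGroup V] [Module K V] [Group X] (ρ : X →* Module.End K V)

/-- `x` and `m` commute up to the scalar `a` -/
def Tw (a : K) (x m : X) : Prop := ρ x * ρ m = a • (ρ m * ρ x)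

/-- the elements acting as scalars -/
def scal : Subgroup X where
  carrier := {x | ∃ c : K, ∀ v, ρ x v = c • v}
  one_mem' := ⟨1, fun v => by simp only [_root_.map_one, _root_.Module.End.one_apply, _root_.one_smul]⟩
  mul_mem' := by
    rintro a b ⟨c, hc⟩ ⟨d, hd⟩
    exact ⟨c * d, fun v => by rw [apply_mul, hc, hd, smul_smul]⟩
  inv_mem' := by
    rintro a ⟨c, hc⟩
    refine ⟨c⁻¹, fun v => ?_⟩
    have h1 := apply_inv_apply ρ a v
    rw [hc] at h1
    by_cases h0 : c = 0
    · rw [h0, zero_smul] at h1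
      rw [← h1, map_zero, smul_zero]
    · rw [eq_inv_smul_iff₀ h0, h1]

theorem scal_normal : (scal ρ).Normal := by
  constructor
  rintro a ⟨c, hc⟩ g
  exact ⟨c, fun v => by rw [apply_mul, apply_mul, hc, map_smul, apply_inv_apply]⟩

/-- the elements commuting with `m` in the representation -/
def cm (m : X) : Subgroup X where
  carrier := {x | ρ x * ρ m = ρ m * ρ x}
  one_mem' := by simp only [_root_.Set.mem_ofPred_eq, _root_.map_one, _root_.one_mul, _root_.mul_one]
  mul_mem' := by
    intro a b (ha : _ = _) (hb : _ = _)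
    change _ = _
    rw [map_mul, mul_assoc, hb, ← mul_assoc, ha, mul_assoc]
  inv_mem' := by
    intro a (ha : _ = _)
    ext v
    have h1 := congrArg (ρ a⁻¹) (LinearMap.congr_fun ha (ρ a⁻¹ v))
    simp only [Module.End.mul_apply, inv_apply_apply, apply_inv_apply] at h1 ⊢
    exact h1.symm

variable {ρ}

theorem rho_injective (x : X) : Function.Injective (ρ x) := fun a b h => by
  rw [← inv_apply_apply ρ x a, h, inv_apply_apply]

theorem Tw.apply {a : K} {x m : X} (h : Tw ρ a x m) (v : V) : ρ x (ρ m v) = a • ρ m (ρ x v) :=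
  LinearMap.congr_fun h v

theorem Tw.of_apply {a : K} {x m : X} (h : ∀ v, ρ x (ρ m v) = a • ρ m (ρ x v)) : Tw ρ a x m := LinearMap.ext h

theorem Tw.unique [Nontrivial V] {a b : K} {x m : X} (h : Tw ρ a x m) (h' : Tw ρ b x m) : a = b := by
  obtain ⟨v, hv⟩ := exists_ne (0 : V)
  have h1 : ρ m (ρ x v) ≠ 0 := fun e => hv (rho_injective x (rho_injective m (by rw [e, map_zero, map_zero])))
  exact smul_left_injective K h1 ((h.apply v).symm.trans (h'.apply v))

theorem Tw.mul_left {a b : K} {x y m : X} (h : Tw ρ a x m) (h' : Tw ρ b y m) : Tw ρ (a * b) (x * y) m :=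
  Tw.of_apply fun v => by rw [apply_mul, h'.apply, map_smul, h.apply, apply_mul, smul_smul, mul_comm]

theorem Tw.mul_right {a b : K} {x m m' : X} (h : Tw ρ a x m) (h' : Tw ρ b x m') : Tw ρ (a * b) x (m * m') :=
  Tw.of_apply fun v => by rw [apply_mul, h.apply, h'.apply, map_smul, apply_mul, smul_smul]

theorem Tw.conj {a : K} {x m : X} (h : Tw ρ a x m) (g : X) : Tw ρ a (g * x * g⁻¹) (g * m * g⁻¹) :=
  Tw.of_apply fun v => by
    simp only [apply_mul, inv_apply_apply]
    rw [h.apply, map_smul]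

theorem Tw.self (x : X) : Tw ρ (1 : K) x x := by rw [Tw, one_smul]

theorem Tw.one_iff {x m : X} : Tw ρ (1 : K) x m ↔ x ∈ cm ρ m := by
  rw [Tw, one_smul]
  rfl

theorem Tw.scal_left {z : X} (hz : z ∈ scal ρ) (m : X) : Tw ρ (1 : K) z m := by
  obtain ⟨c, hc⟩ := hz
  exact Tw.of_apply fun v => by rw [hc, hc, map_smul, one_smul]

theorem Tw.scal_right {z : X} (hz : z ∈ scal ρ) (m : X) : Tw ρ (1 : K) m z := by
  obtain ⟨c, hc⟩ := hz
  exact Tw.of_apply fun v => by rw [hc, hc, map_smul, one_smul]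

theorem Tw.of_commutator {x m : X} (h : ⁅x, m⁆ ∈ scal ρ) : ∃ a : K, Tw ρ a x m := by
  obtain ⟨c, hc⟩ := h
  refine ⟨c, Tw.of_apply fun v => ?_⟩
  have h1 := hc (ρ m (ρ x v))
  rwa [commutatorElement_def, apply_mul, apply_mul, apply_mul, inv_apply_apply, inv_apply_apply] at h1

theorem Tw.div [Nontrivial V] {a : K} {x y m : X} (h : Tw ρ a x m) (h' : Tw ρ a y m) : x * y⁻¹ ∈ cm ρ m := by
  have h0 : a ≠ 0 := by
    rintro rfl
    obtain ⟨v, hv⟩ := exists_ne (0 : V)
    have h1 := h.apply v
    rw [zero_smul] at h1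
    exact hv (rho_injective m (rho_injective x (by rw [h1, map_zero, map_zero])))
  refine LinearMap.ext fun v => smul_right_injective V h0 ?_
  have h1 := congrArg (ρ y⁻¹) (h'.apply (ρ y⁻¹ v))
  rw [inv_apply_apply, apply_inv_apply, map_smul] at h1
  simp only [Module.End.mul_apply, apply_mul]
  rw [← h.apply, h1, map_smul]

end tw

/-- the bound needed for the chief factors of symplectic type -/
def Beta (n k : ℕ) : Prop :=
  ∀ (X E : Type) [Group X] [Finite X] [Group.IsSolvable X] [AddCommGroup E] [Finite E] [DistribMulAction X E],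
    Wt.Irr X E → ∀ q j s : ℕ, q.Prime → Nat.card E = q ^ j → j ≤ 2 * s → q ^ s ≤ n →
      (Nat.card E ∣ 9 → Nat.card (Wt.Im X E) ≤ 24) → Wt.DL X E k

/-- the primitive case -/
theorem prim_case {K V X : Type} [Field K] [IsAlgClosed K] [AddCommGroup V] [Module K V] [FiniteDimensional K V] [Nontrivial V]
    [Group X] [Finite X] (hX : Group.IsSolvable X) {ρ : X →* Module.End K V}
    (hp : ∀ N : Subgroup X, N.Normal → (∀ a ∈ N, ∀ b ∈ N, ρ a * ρ b = ρ b * ρ a) → N ≤ scal ρ) {k : ℕ}
    (hβ : Beta (finrank K V) k) : derivedSeries X (k + 1) ≤ scal ρ := by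
  have := scal_normal ρ
  by_contra hcon
  obtain ⟨M, ⟨hMn, hZM, hMD⟩, hmin'⟩ := WellFounded.has_min (wellFounded_lt (α := Subgroup X))
    {M : Subgroup X | M.Normal ∧ scal ρ < M ∧ M ≤ derivedSeries X (k + 1) ⊔ scal ρ}
    ⟨_, inferInstance, right_lt_sup.2 hcon, le_rfl⟩
  have hmin : ∀ N : Subgroup X, N.Normal → scal ρ < N → N ≤ M → N = M := fun N hN h1 h2 =>
    eq_of_le_of_not_lt h2 (hmin' N ⟨hN, h1, h2.trans hMD⟩)
  have hcomm : ⁅M, M⁆ ≤ scal ρ := by
    by_contra h
    have h1 := hmin (⁅M, M⁆ ⊔ scal ρ) inferInstance (right_lt_sup.2 h)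
      (sup_le (Subgroup.commutator_le_left _ _) hZM.le)
    let π := QuotientGroup.mk' (scal ρ)
    have h2 : M.map π ≠ ⊥ := by
      rw [Ne, Subgroup.map_eq_bot_iff, QuotientGroup.ker_mk']
      exact hZM.not_ge
    have h3 := Group.IsSolvable.commutator_lt_of_ne_bot h2
    have h4 : (scal ρ).map π = ⊥ := by rw [Subgroup.map_eq_bot_iff, QuotientGroup.ker_mk']
    rw [← Subgroup.map_commutator, ← sup_bot_eq (Subgroup.map π ⁅M, M⁆), ← h4, ← Subgroup.map_sup, h1] at h3
    exact lt_irrefl _ h3
  have hnc : ¬ ∀ a ∈ M, ∀ b ∈ M, ρ a * ρ b = ρ b * ρ a := fun h => hZM.not_ge (hp M hMn h)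
  obtain ⟨E, i1, i2, i3, τ, hirr, hτ, hτe, hτm, hτc⟩ := Wt.exists_mod' (scal ρ) M hZM hmin hcomm
  choose σ hσ using hτ
  have h1 : ∀ u w : E, ∃ a : K, Tw ρ a (σ u : X) (σ w) := fun u w =>
    Tw.of_commutator (hcomm (Subgroup.commutator_mem_commutator (σ u).2 (σ w).2))
  choose f hf using h1
  have h2 : ∀ a b : M, Tw ρ (f (τ a) (τ b)) (a : X) b := by
    intro a b
    have h3 := ((hf (τ a) (τ b)).mul_left (Tw.scal_left ((hτe _ a).1 (hσ _)) _)).mul_right
      (Tw.scal_right ((hτe _ b).1 (hσ _)) _)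
    rwa [mul_inv_cancel_left, mul_inv_cancel_left, mul_one, mul_one] at h3
  have halt : Alt f := by
    refine ⟨fun u w w' => ?_, fun u u' w => ?_, fun u => (hf u u).unique (Tw.self _)⟩
    · have h3 := h2 (σ u) (σ w * σ w')
      rw [hτm, hσ, hσ, hσ] at h3
      exact h3.unique ((hf u w).mul_right (hf u w'))
    · have h3 := h2 (σ u * σ u') (σ w)
      rw [hτm, hσ, hσ, hσ] at h3
      exact h3.unique ((hf u w).mul_left (hf u' w))
  have hinv : ∀ (g : X) u w, f (g • u) (g • w) = f u w := by
    intro g u w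
    have h3 := h2 ⟨g * σ u * g⁻¹, hMn.conj_mem _ (σ u).2 g⟩ ⟨g * σ w * g⁻¹, hMn.conj_mem _ (σ w).2 g⟩
    rw [hτc, hτc, hσ, hσ] at h3
    exact h3.unique ((hf u w).conj g)
  obtain ⟨a, b, hab⟩ : ∃ a b, f a b ≠ 1 := by
    by_contra h
    push Not at h
    refine hnc fun a ha b hb => ?_
    have h3 := h2 ⟨a, ha⟩ ⟨b, hb⟩
    rw [h] at h3
    exact Tw.one_iff.1 h3
  have hn : ∀ u, (∀ w, f u w = 1) → u = 0 := by
    intro u hu
    rcases hirr.irr (halt.perp Set.univ) (fun g x hx w _ => by
      rw [← smul_inv_smul g w, hinv]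
      exact hx _ trivial) with h | h
    · rw [← AddSubgroup.mem_bot, ← h]
      exact fun w _ => halt.symm (hu w)
    · have h3 : b ∈ halt.perp Set.univ := by rw [h]; trivial
      exact absurd (h3 a trivial) hab
  obtain ⟨t, ht1, ht2, ht3⟩ := halt.card_le hn (fun u => ρ (σ u)) (fun u => rho_injective _) hf
  obtain ⟨q, hq, hqx⟩ := hirr.exists_prime
  have := Fact.mk hq
  obtain ⟨j, hj⟩ : ∃ j, Nat.card E = q ^ j := by
    have h3 : IsPGroup q (Multiplicative E) := fun x => ⟨1, by
      rw [pow_one]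
      exact hqx x.toAdd⟩
    exact (IsPGroup.iff_card (G := Multiplicative E)).1 h3
  rw [hj] at ht2 ht3
  obtain ⟨s, -, rfl⟩ := (Nat.dvd_prime_pow hq).1 ht2
  rw [← pow_add, Nat.pow_le_pow_iff_right hq.one_lt] at ht3
  have h3 := hβ X E hirr q j s hq hj (by omega) ht1 fun h9 => halt.card_le_24 h9 hab Wt.range_faithful (by
    rintro ⟨_, g, rfl⟩ u w
    exact hinv g u w)
  have h4 : ∀ c ∈ derivedSeries X k, ∀ m ∈ M, ∃ a : K, Tw ρ a c m := by
    intro c hc m hm
    refine Tw.of_commutator ?_
    have h5 := h3 c (by rwa [Wt.dser_top]) (τ ⟨m, hm⟩)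
    rw [← hτc, hτe] at h5
    have h6 := (scal_normal ρ).conj_mem _ ((scal ρ).inv_mem h5) m
    convert h6 using 1
    simp only [commutatorElement_def]
    group
  refine hnc fun x hx m hm => ?_
  have h5 : derivedSeries X (k + 1) ⊔ scal ρ ≤ cm ρ m := by
    refine sup_le ?_ fun z hz => Tw.one_iff.1 (Tw.scal_left hz m)
    rw [derivedSeries_succ, Subgroup.commutator_le]
    intro c hc d hd
    obtain ⟨α, hα⟩ := h4 c hc m hm
    obtain ⟨β, hβ'⟩ := h4 d hd m hm
    have h6 := (hα.mul_left hβ').div (by rw [mul_comm]; exact hβ'.mul_left hα)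
    rwa [mul_inv_rev, ← mul_assoc] at h6
  exact h5 (hMD hx)

theorem beta_of {n k : ℕ} (h : ∀ q s, q.Prime → q ^ s ≤ n → 1 ≤ s → (q = 3 ∧ s = 1 ∧ 3 ≤ k) ∨
    ∃ r, 2 * s ≤ r ∧ (∀ j ≤ r, Ord.glN q j ∣ Ord.glN q r) ∧ Ord.okT Ord.tabAL q r (Ord.glN q r) k = true) : Beta n k := by
  intro X E _ _ _ _ _ _ hirr q j s hq hc hj hs h24
  have h1 := Ord.exp_pos hirr hc
  have h2 := Ord.card_im_dvd_gl hirr hq hc
  rcases h q s hq hs (by omega) with ⟨rfl, rfl, h3⟩ | ⟨r, h3, h4, h5⟩
  · have h4 := h24 (by rw [hc]; exact pow_dvd_pow 3 hj)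
    have h5 : Nat.card (Wt.Im X E) ∣ 48 := by
      refine h2.trans ?_
      interval_cases j <;> decide
    have h6 : Nat.card (Wt.Im X E) ∣ 24 ∨ Nat.card (Wt.Im X E) ∣ 16 := by
      generalize Nat.card (Wt.Im X E) = c at h4 h5
      interval_cases c <;> (clear * - h5; omega)
    rcases h6 with h6 | h6
    · exact (Ord.tabA_valid.dl X E hirr hq hj hc h6 (e := 3) (by decide +kernel)).mono h3
    · exact (Ord.tabA_valid.dl X E hirr hq hj hc h6 (e := 3) (by decide +kernel)).mono h3
  · exact Ord.tabA_valid.dl X E hirr hq (hj.trans h3) hc (h2.trans (h4 j (hj.trans h3))) h5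

theorem small_pow {q s n : ℕ} (hq : q.Prime) (h : q ^ s ≤ n) (hn : n ≤ 8) (hs : 1 ≤ s) :
    (q = 2 ∧ s ≤ 3) ∨ (q = 3 ∧ s = 1) ∨ (q = 5 ∧ s = 1) ∨ (q = 7 ∧ s = 1) := by
  have h1 : q ≤ 8 := (Nat.le_self_pow (by omega) q).trans (h.trans hn)
  have h2 : s ≤ 3 := by
    by_contra h3
    have h4 : 2 ^ 4 ≤ q ^ s := (Nat.pow_le_pow_left hq.two_le 4).trans (Nat.pow_le_pow_right hq.pos (by omega))
    omega
  have h3 := hq.two_le
  interval_cases q <;> first | (exfalso; revert hq; decide) | (interval_cases s <;> (clear * - hn h; omega))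

theorem beta_two : Beta 2 2 := beta_of fun q s hq h hs => by
  rcases small_pow hq h (by norm_num) hs with ⟨rfl, h1⟩ | ⟨rfl, rfl⟩ | ⟨rfl, rfl⟩ | ⟨rfl, rfl⟩
  · exact Or.inr ⟨2, by interval_cases s <;> omega, by decide +kernel, by decide +kernel⟩
  all_goals omega

theorem beta_four : Beta 4 3 := beta_of fun q s hq h hs => by
  rcases small_pow hq h (by norm_num) hs with ⟨rfl, h1⟩ | ⟨rfl, rfl⟩ | ⟨rfl, rfl⟩ | ⟨rfl, rfl⟩
  · exact Or.inr ⟨4, by interval_cases s <;> omega, by decide +kernel, by decide +kernel⟩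
  · exact Or.inl ⟨rfl, rfl, le_rfl⟩
  all_goals omega

theorem beta_seven : Beta 7 4 := beta_of fun q s hq h hs => by
  rcases small_pow hq h (by norm_num) hs with ⟨rfl, h1⟩ | ⟨rfl, rfl⟩ | ⟨rfl, rfl⟩ | ⟨rfl, rfl⟩
  · exact Or.inr ⟨4, by interval_cases s <;> omega, by decide +kernel, by decide +kernel⟩
  · exact Or.inl ⟨rfl, rfl, by norm_num⟩
  · exact Or.inr ⟨2, le_rfl, by decide +kernel, by decide +kernel⟩
  · exact Or.inr ⟨2, le_rfl, by decide +kernel, by decide +kernel⟩

theorem beta_eight : Beta 8 6 := beta_of fun q s hq h hs => by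
  rcases small_pow hq h (by norm_num) hs with ⟨rfl, h1⟩ | ⟨rfl, rfl⟩ | ⟨rfl, rfl⟩ | ⟨rfl, rfl⟩
  · exact Or.inr ⟨6, by omega, by decide +kernel, by decide +kernel⟩
  · exact Or.inl ⟨rfl, rfl, by norm_num⟩
  · exact Or.inr ⟨2, le_rfl, by decide +kernel, by decide +kernel⟩
  · exact Or.inr ⟨2, le_rfl, by decide +kernel, by decide +kernel⟩

theorem Beta.mono {n k n' m : ℕ} (h : Beta n k) (hn : n' ≤ n) (hm : k ≤ m) : Beta n' m :=
  fun X E _ _ _ _ _ _ hirr q j s hq hc hj hs h24 => (h X E hirr q j s hq hc hj (hs.trans hn) h24).mono hm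

end Cfsg.Agent.DS.Lin
end

-- part: DS/D4/Form
section
/-!
# Solvable groups of similitudes of a symmetric bilinear form (helper20)

`IrrB K d k`: the `k`-th derived subgroup of a finite solvable group acts trivially on its irreducible modules of
dimension `d` over `K`.  `FormB K n k`: the same for modules of dimension `n` on which the group acts by similitudes of
a non-degenerate symmetric bilinear form.  `step` is the recursion through a minimal submodule.
-/

set_option autoImplicit false

namespace Cfsg.Agent.DS.D4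

open Module LinearMap

/-- `W` is invariant -/
def Inv {K V X : Type} [Field K] [AddCommGroup V] [Module K V] [Group X] (ρ : Representation K X V)
    (W : Submodule K V) : Prop := ∀ g, ∀ v ∈ W, ρ g v ∈ W

/-- no proper invariant subspace -/
def Irr {K V X : Type} [Field K] [AddCommGroup V] [Module K V] [Group X] (ρ : Representation K X V) : Prop :=
  ∀ W : Submodule K V, Inv ρ W → W = ⊥ ∨ W = ⊤

/-- bound for irreducible modules -/
def IrrB (K : Type) [Field K] (d k : ℕ) : Prop :=
  ∀ (V : Type) [AddCommGroup V] [Module K V] [FiniteDimensional K V] (X : Type) [Group X] [Finite X]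
    [Group.IsSolvable X] (ρ : Representation K X V), finrank K V = d → Irr ρ → ∀ x ∈ derivedSeries X k, ρ x = 1

/-- projective bound for irreducible modules -/
def IrrP (K : Type) [Field K] (d k : ℕ) : Prop :=
  ∀ (V : Type) [AddCommGroup V] [Module K V] [FiniteDimensional K V] (X : Type) [Group X] [Finite X]
    [Group.IsSolvable X] (ρ : Representation K X V), finrank K V = d → Irr ρ →
      ∀ x ∈ derivedSeries X k, ∃ c : K, ∀ v, ρ x v = c • v

/-- the group acts by similitudes with multiplier `m` -/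
structure Sim {K V X : Type} [Field K] [AddCommGroup V] [Module K V] [Group X] (B : LinearMap.BilinForm K V)
    (ρ : Representation K X V) (m : X →* Kˣ) : Prop where
  symm : ∀ x y, B x y = B y x
  nd : ∀ x, (∀ y, B x y = 0) → x = 0
  sim : ∀ g x y, B (ρ g x) (ρ g y) = m g * B x y

/-- bound for modules with a form -/
def FormB (K : Type) [Field K] (n k : ℕ) : Prop :=
  ∀ (V : Type) [AddCommGroup V] [Module K V] [FiniteDimensional K V] (X : Type) [Group X] [Finite X]
    [Group.IsSolvable X] (B : LinearMap.BilinForm K V) (ρ : Representation K X V) (m : X →* Kˣ), finrank K V = n →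
      Sim B ρ m → ∀ x ∈ derivedSeries X k, ρ x = 1

section group

variable {X : Type} [Group X]

theorem der_succ_le {N M : Subgroup X} {j : ℕ} (h : derivedSeries X j ≤ N)
    (hc : ∀ g ∈ N, ∀ h ∈ N, g * h * g⁻¹ * h⁻¹ ∈ M) : derivedSeries X (j + 1) ≤ M := by
  rw [derivedSeries_succ]
  refine (Subgroup.commutator_mono h h).trans ?_
  rw [Subgroup.commutator_le]
  exact hc

theorem der_le_ker {A : Type} [CommGroup A] (m : X →* A) {j : ℕ} (hj : 1 ≤ j) : derivedSeries X j ≤ m.ker := by
  refine (derivedSeries_antitone X hj).trans ?_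
  refine der_succ_le (N := ⊤) (j := 0) le_top ?_
  intro g _ h _
  rw [MonoidHom.mem_ker, map_mul, map_mul, map_mul, map_inv, map_inv, mul_comm (m g) (m h)]
  group

end group

section step

variable {K V X : Type} [Field K] [AddCommGroup V] [Module K V] [Group X]

theorem rho_inv (ρ : Representation K X V) (g : X) (v : V) : ρ g⁻¹ (ρ g v) = v := by
  rw [← Module.End.mul_apply, ← map_mul, inv_mul_cancel, map_one, Module.End.one_apply]

theorem rho_inv' (ρ : Representation K X V) (g : X) (v : V) : ρ g (ρ g⁻¹ v) = v := by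
  rw [← Module.End.mul_apply, ← map_mul, mul_inv_cancel, map_one, Module.End.one_apply]

theorem rho_mul (ρ : Representation K X V) (g h : X) (v : V) : ρ (g * h) v = ρ g (ρ h v) := by
  rw [map_mul, Module.End.mul_apply]

/-- the kernel of a representation -/
def kerR (ρ : Representation K X V) : Subgroup X where
  carrier := {g | ρ g = 1}
  mul_mem' := by
    intro a b (ha : ρ a = 1) (hb : ρ b = 1)
    show ρ (a * b) = 1
    rw [map_mul, ha, hb, one_mul]
  one_mem' := map_one ρ
  inv_mem' := by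
    intro a (ha : ρ a = 1)
    show ρ a⁻¹ = 1
    ext v
    have := rho_inv ρ a v
    rw [ha, Module.End.one_apply] at this
    rw [this, Module.End.one_apply]

theorem comm_mem_kerR (ρ : Representation K X V) {g h : X} (hc : ∀ v, ρ g (ρ h v) = ρ h (ρ g v)) :
    g * h * g⁻¹ * h⁻¹ ∈ kerR ρ := by
  show ρ _ = 1
  ext v
  rw [rho_mul, rho_mul, rho_mul, hc, rho_inv', rho_inv', Module.End.one_apply]

/-- the elements acting trivially on `W'/W` -/
def trivOn (ρ : Representation K X V) (W W' : Submodule K V) (hW : Inv ρ W) (hW' : Inv ρ W') : Subgroup X where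
  carrier := {g | ∀ v ∈ W', ρ g v - v ∈ W}
  mul_mem' := by
    intro a b ha hb v hv
    have h1 := W.add_mem (hW a _ (hb v hv)) (ha v hv)
    rwa [map_sub, sub_add_sub_cancel, ← rho_mul] at h1
  one_mem' := by
    intro v _
    rw [map_one, Module.End.one_apply, sub_self]
    exact W.zero_mem
  inv_mem' := by
    intro a ha v hv
    have h1 := W.neg_mem (ha _ (hW' a⁻¹ v hv))
    rwa [rho_inv', neg_sub] at h1

theorem inv_bot (ρ : Representation K X V) : Inv ρ ⊥ := by
  intro g v hv
  rw [Submodule.mem_bot] at hv ⊢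
  rw [hv, map_zero]

theorem inv_top (ρ : Representation K X V) : Inv ρ ⊤ := fun _ _ _ => trivial

theorem Inv.inf {ρ : Representation K X V} {W W' : Submodule K V} (hW : Inv ρ W) (hW' : Inv ρ W') :
    Inv ρ (W ⊓ W') := fun g v hv => ⟨hW g v hv.1, hW' g v hv.2⟩

/-- the action on an invariant subspace -/
def subR (ρ : Representation K X V) (W : Submodule K V) (hW : Inv ρ W) : Representation K X W :=
  ρ.subrepresentation W (fun g v hv => hW g v hv)

theorem fix_of_subR {ρ : Representation K X V} {W : Submodule K V} {hW : Inv ρ W} {g : X} (h : subR ρ W hW g = 1) :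
    ∀ v ∈ W, ρ g v = v := by
  intro v hv
  have := congrArg Subtype.val (LinearMap.congr_fun h ⟨v, hv⟩)
  exact this

/-- a minimal invariant subspace -/
theorem exists_min [FiniteDimensional K V] (ρ : Representation K X V) {W₀ : Submodule K V} (h₀ : Inv ρ W₀)
    (hb : W₀ ≠ ⊥) : ∃ W : Submodule K V, W ≤ W₀ ∧ W ≠ ⊥ ∧ Inv ρ W ∧
      ∀ W' : Submodule K V, Inv ρ W' → W' ≤ W → W' = ⊥ ∨ W' = W := by
  obtain ⟨W, ⟨h1, h2, h3⟩, hmin⟩ := WellFounded.has_min (wellFounded_lt (α := Submodule K V))
    {W | W ≤ W₀ ∧ W ≠ ⊥ ∧ Inv ρ W} ⟨W₀, le_rfl, hb, h₀⟩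
  refine ⟨W, h1, h2, h3, fun W' hW' hle => ?_⟩
  by_cases h4 : W' = ⊥
  · exact Or.inl h4
  · exact Or.inr (eq_of_le_of_not_lt hle (hmin W' ⟨hle.trans h1, h4, hW'⟩))

theorem irr_subR {ρ : Representation K X V} {W : Submodule K V} (hW : Inv ρ W)
    (hmin : ∀ W' : Submodule K V, Inv ρ W' → W' ≤ W → W' = ⊥ ∨ W' = W) : Irr (subR ρ W hW) := by
  intro U hU
  have h1 : Inv ρ (U.map W.subtype) := by
    rintro g _ ⟨u, hu, rfl⟩
    exact ⟨_, hU g u hu, rfl⟩
  rcases hmin _ h1 (Submodule.map_subtype_le W U) with h | h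
  · left
    rwa [← Submodule.map_bot W.subtype, (Submodule.map_injective_of_injective W.injective_subtype).eq_iff] at h
  · right
    apply Submodule.map_injective_of_injective W.injective_subtype
    rw [h, Submodule.map_subtype_top]

variable {B : LinearMap.BilinForm K V} {ρ : Representation K X V} {m : X →* Kˣ}

theorem Sim.refl (h : Sim B ρ m) : B.IsRefl := fun x y hxy => by rw [h.symm, hxy]

theorem Sim.nondeg (h : Sim B ρ m) : B.Nondegenerate :=
  ⟨fun x hx => h.nd x hx, fun x hx => h.nd x fun y => by rw [h.symm]; exact hx y⟩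

theorem Sim.inv_orth (h : Sim B ρ m) {W : Submodule K V} (hW : Inv ρ W) : Inv ρ (B.orthogonal W) := by
  intro g v hv w hw
  have h1 := h.sim g (ρ g⁻¹ w) v
  rw [rho_inv'] at h1
  have h2 : B (ρ g⁻¹ w) v = 0 := hv _ (hW g⁻¹ w hw)
  show B w (ρ g v) = 0
  rw [h1, h2, mul_zero]

/-- restriction to a non-degenerate invariant subspace -/
theorem Sim.sub (h : Sim B ρ m) {W : Submodule K V} (hW : Inv ρ W) (hd : W ⊓ B.orthogonal W = ⊥) :
    Sim (B.restrict W) (subR ρ W hW) m := by
  refine ⟨fun x y => h.symm x y, fun x hx => ?_, fun g x y => h.sim g x y⟩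
  have h1 : (x : V) ∈ W ⊓ B.orthogonal W := ⟨x.2, fun w hw => by
    have := hx ⟨w, hw⟩
    show B w x = 0
    rw [h.symm]; exact this⟩
  rw [hd, Submodule.mem_bot] at h1
  exact Subtype.ext h1

/-- the case of a totally isotropic invariant subspace: the group acting trivially on the three factors -/
theorem Sim.iso [FiniteDimensional K V] (h : Sim B ρ m) {W : Submodule K V} (hW : Inv ρ W)
    (hle : W ≤ B.orthogonal W) {j : ℕ} (h1 : ∀ x ∈ derivedSeries X j, ∀ v ∈ W, ρ x v = v)
    (h2 : ∀ x ∈ derivedSeries X j, ∀ v ∈ B.orthogonal W, ρ x v - v ∈ W) (h3 : ∀ x ∈ derivedSeries X j, m x = 1) :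
    derivedSeries X (j + 2) ≤ kerR ρ ∧
      ((finrank K W = 1 ∨ finrank K V = 2 * finrank K W) → derivedSeries X (j + 1) ≤ kerR ρ) := by
  have hP := h.inv_orth hW
  have h4 : ∀ x ∈ derivedSeries X j, ∀ v, ρ x v - v ∈ B.orthogonal W := by
    intro x hx v w hw
    have h5 := h.sim x w v
    rw [h1 x hx w hw, h3 x hx, Units.val_one, one_mul] at h5
    show B w (ρ x v - v) = 0
    rw [map_sub, h5, sub_self]
  -- the commutator of two elements
  have h5 : ∀ g ∈ derivedSeries X j, ∀ k ∈ derivedSeries X j, ∀ v,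
      ρ g (ρ k v) - ρ k (ρ g v) = (ρ g (ρ k v - v) - (ρ k v - v)) - (ρ k (ρ g v - v) - (ρ g v - v)) := by
    intro g _ k _ v
    rw [map_sub, map_sub]; abel
  have h6 : ∀ g ∈ derivedSeries X j, ∀ k ∈ derivedSeries X j, ∀ v, ρ g (ρ k v) - ρ k (ρ g v) ∈ W := by
    intro g hg k hk v
    rw [h5 g hg k hk]
    exact W.sub_mem (h2 g hg _ (h4 k hk v)) (h2 k hk _ (h4 g hg v))
  have h7 : ∀ g ∈ derivedSeries X j, ∀ k ∈ derivedSeries X j, ∀ v ∈ B.orthogonal W, ρ g (ρ k v) = ρ k (ρ g v) := by
    intro g hg k hk v hv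
    rw [← sub_eq_zero, h5 g hg k hk, h1 g hg _ (h2 k hk v hv), h1 k hk _ (h2 g hg v hv), sub_self, sub_self, sub_self]
  have h8 : ∀ g ∈ derivedSeries X j, ∀ k ∈ derivedSeries X j, ∀ v, B (ρ g (ρ k v) - ρ k (ρ g v)) v = 0 := by
    have h9 : ∀ g ∈ derivedSeries X j, ∀ k ∈ derivedSeries X j, ∀ v,
        B (ρ g (ρ k v - v) - (ρ k v - v)) v = - B (ρ k v - v) (ρ g v - v) := by
      intro g hg k hk v
      have e1 := h.sim g (ρ k v - v) v
      rw [h3 g hg, Units.val_one, one_mul] at e1
      have e2 : B (ρ g (ρ k v - v) - (ρ k v - v)) (ρ g v - v) = 0 := h4 g hg v _ (h2 g hg _ (h4 k hk v))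
      simp only [map_sub, LinearMap.sub_apply] at e1 e2 ⊢
      linear_combination e1 - e2
    intro g hg k hk v
    rw [h5 g hg k hk, map_sub, LinearMap.sub_apply, h9 g hg k hk, h9 k hk g hg, h.symm (ρ k v - v), sub_self]
  constructor
  · have h10 : derivedSeries X (j + 1) ≤ trivOn ρ ⊥ (B.orthogonal W) (inv_bot ρ) hP ⊓ trivOn ρ W ⊤ hW (inv_top ρ) := by
      refine der_succ_le le_rfl fun g hg k hk => ⟨fun v hv => ?_, fun v _ => ?_⟩
      · rw [Submodule.mem_bot, sub_eq_zero, rho_mul, rho_mul, rho_mul,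
          h7 g hg k hk _ (hP _ _ (hP _ _ hv)), rho_inv', rho_inv']
      · have h11 := h6 g hg k hk (ρ g⁻¹ (ρ k⁻¹ v))
        rwa [rho_inv', rho_inv', ← rho_mul, ← rho_mul, ← rho_mul] at h11
    refine der_succ_le h10 fun g hg k hk => comm_mem_kerR ρ fun v => ?_
    have e : ∀ g ∈ trivOn ρ ⊥ (B.orthogonal W) (inv_bot ρ) hP ⊓ trivOn ρ W ⊤ hW (inv_top ρ),
        ∀ k ∈ trivOn ρ ⊥ (B.orthogonal W) (inv_bot ρ) hP ⊓ trivOn ρ W ⊤ hW (inv_top ρ),
        ρ g (ρ k v) = ρ g v + (ρ k v - v) := by
      intro g hg k hk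
      have e1 := hg.1 _ (hle (hk.2 v trivial))
      rw [Submodule.mem_bot, sub_eq_zero, map_sub] at e1
      rw [← e1]; abel
    rw [e g hg k hk, e k hk g hg]; abel
  · rintro (hw | hw)
    · refine der_succ_le le_rfl fun g hg k hk => comm_mem_kerR ρ fun v => ?_
      by_cases hv : v ∈ B.orthogonal W
      · exact h7 g hg k hk v hv
      · by_contra hne
        apply hv
        have hne' : ρ g (ρ k v) - ρ k (ρ g v) ≠ 0 := sub_ne_zero.2 hne
        have e1 := (finrank_eq_one_iff_of_nonzero' (⟨_, h6 g hg k hk v⟩ : W)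
          (fun h0 => hne' (congrArg Subtype.val h0))).1 hw
        intro w hw'
        obtain ⟨c, hc⟩ := e1 ⟨w, hw'⟩
        have e2 : c • (ρ g (ρ k v) - ρ k (ρ g v)) = w := congrArg Subtype.val hc
        show B w v = 0
        rw [← e2, map_smul, LinearMap.smul_apply, h8 g hg k hk, smul_zero]
    · have e1 : W = B.orthogonal W := by
        refine Submodule.eq_of_le_of_finrank_eq hle ?_
        rw [LinearMap.BilinForm.finrank_orthogonal h.nondeg]; omega
      refine der_succ_le le_rfl fun g hg k hk => comm_mem_kerR ρ fun v => ?_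
      have e2 : ∀ g ∈ derivedSeries X j, ρ g v - v ∈ W := fun g hg => e1.ge (h4 g hg v)
      rw [← sub_eq_zero, h5 g hg k hk, h1 g hg _ (e2 k hk), h1 k hk _ (e2 g hg), sub_self, sub_self, sub_self]

/-- the form and the action on `W^⊥ / W` -/
theorem Sim.quot [FiniteDimensional K V] [Finite X] [Group.IsSolvable X] (h : Sim B ρ m) {W : Submodule K V}
    (hW : Inv ρ W) (hle : W ≤ B.orthogonal W) {k : ℕ} (hk : FormB K (finrank K V - 2 * finrank K W) k) :
    ∀ x ∈ derivedSeries X k, ∀ v ∈ B.orthogonal W, ρ x v - v ∈ W := by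
  have hP := h.inv_orth hW
  set P := B.orthogonal W with hPdef
  let N : Submodule K P := W.comap P.subtype
  have hN : ∀ g, N ≤ N.comap (subR ρ P hP g) := fun g v hv => hW g v hv
  have hk1 : N ≤ LinearMap.ker (B.restrict P) := by
    intro v hv
    rw [LinearMap.mem_ker]
    ext y
    exact y.2 v hv
  have hk2 : N ≤ LinearMap.ker (LinearMap.flip (B.restrict P)) := by
    intro v hv
    rw [LinearMap.mem_ker]
    ext y
    have : B v y = 0 := y.2 v hv
    show B y v = 0
    rw [h.symm]; exact this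
  let B' : LinearMap.BilinForm K (P ⧸ N) := LinearMap.liftQ₂ N N (B.restrict P) hk1 hk2
  have hB' : ∀ x y : P, B' (Submodule.Quotient.mk x) (Submodule.Quotient.mk y) = B x y := fun _ _ => rfl
  let ρ' : Representation K X (P ⧸ N) := (subR ρ P hP).quotient N hN
  have hρ' : ∀ g (x : P), ρ' g (Submodule.Quotient.mk x) = Submodule.Quotient.mk (subR ρ P hP g x) := fun _ _ => rfl
  have hs : Sim B' ρ' m := by
    refine ⟨fun x y => ?_, fun x hx => ?_, fun g x y => ?_⟩
    · obtain ⟨x, rfl⟩ := Submodule.Quotient.mk_surjective N x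
      obtain ⟨y, rfl⟩ := Submodule.Quotient.mk_surjective N y
      rw [hB', hB', h.symm]
    · obtain ⟨x, rfl⟩ := Submodule.Quotient.mk_surjective N x
      rw [Submodule.Quotient.mk_eq_zero]
      show (x : V) ∈ W
      rw [← LinearMap.BilinForm.orthogonal_orthogonal h.nondeg h.refl W]
      intro y hy
      have := hx (Submodule.Quotient.mk ⟨y, hy⟩)
      rw [hB'] at this
      show B y x = 0
      rw [h.symm]; exact this
    · obtain ⟨x, rfl⟩ := Submodule.Quotient.mk_surjective N x
      obtain ⟨y, rfl⟩ := Submodule.Quotient.mk_surjective N y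
      rw [hρ', hρ', hB', hB']
      exact h.sim g x y
  have hd : finrank K (P ⧸ N) = finrank K V - 2 * finrank K W := by
    have e1 := Submodule.finrank_quotient_add_finrank N
    have e2 : finrank K N = finrank K W := (Submodule.comapSubtypeEquivOfLe hle).finrank_eq
    have e3 : finrank K P = finrank K V - finrank K W := LinearMap.BilinForm.finrank_orthogonal h.nondeg W
    omega
  intro x hx v hv
  have e := LinearMap.congr_fun (hk _ X B' ρ' m hd hs x hx) (Submodule.Quotient.mk ⟨v, hv⟩)
  rw [hρ', Module.End.one_apply, Submodule.Quotient.eq] at e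
  exact e

/-- **The recursion** for a reducible module. -/
theorem step [FiniteDimensional K V] [Finite X] [Group.IsSolvable X] (h : Sim B ρ m) {n k : ℕ}
    (hn : finrank K V = n) (hred : ¬ Irr ρ) (τ σ : ℕ → ℕ) (hτ : ∀ w, 1 ≤ w → w < n → IrrB K w (τ w))
    (hσ : ∀ j, j < n → FormB K j (σ j)) (h1 : ∀ w, 1 ≤ w → w < n → τ w ≤ k ∧ σ (n - w) ≤ k)
    (h2 : ∀ w, 1 ≤ w → 2 * w ≤ n →
      max 1 (max (τ w) (σ (n - 2 * w))) + (if w = 1 ∨ n = 2 * w then 1 else 2) ≤ k) :
    ∀ x ∈ derivedSeries X k, ρ x = 1 := by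
  obtain ⟨W₀, h₀, hb, ht⟩ : ∃ W₀ : Submodule K V, Inv ρ W₀ ∧ W₀ ≠ ⊥ ∧ W₀ ≠ ⊤ := by
    by_contra hcon
    push Not at hcon
    refine hred fun W hW => ?_
    by_cases h3 : W = ⊥
    · exact Or.inl h3
    · exact Or.inr (hcon W hW h3)
  obtain ⟨W, hW0, hWb, hW, hmin⟩ := exists_min ρ h₀ hb
  have hw1 : 1 ≤ finrank K W := by
    rw [Nat.one_le_iff_ne_zero, Ne, Submodule.finrank_eq_zero]; exact hWb
  have hw2 : finrank K W < n := by
    rw [← hn]
    exact Submodule.finrank_lt (fun h3 => ht (top_le_iff.1 (h3 ▸ hW0)))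
  have hP := h.inv_orth hW
  have hfix : ∀ x ∈ derivedSeries X (τ (finrank K W)), ∀ v ∈ W, ρ x v = v := fun x hx =>
    fix_of_subR (hτ _ hw1 hw2 W X (subR ρ W hW) rfl (irr_subR hW hmin) x hx)
  have hdP : finrank K (B.orthogonal W) = n - finrank K W := by
    rw [← hn]; exact LinearMap.BilinForm.finrank_orthogonal h.nondeg W
  rcases hmin _ (hW.inf hP) inf_le_left with h3 | h3
  · have h4 : B.orthogonal W ⊓ B.orthogonal (B.orthogonal W) = ⊥ := by
      rw [LinearMap.BilinForm.orthogonal_orthogonal h.nondeg h.refl, inf_comm, h3]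
    have h5 : ∀ x ∈ derivedSeries X (σ (n - finrank K W)), ∀ v ∈ B.orthogonal W, ρ x v = v := fun x hx =>
      fix_of_subR (hσ _ (by omega) _ X _ _ m hdP (h.sub hP h4) x hx)
    have h6 : W ⊔ B.orthogonal W = ⊤ := by
      apply Submodule.eq_top_of_finrank_eq
      have := Submodule.finrank_sup_add_finrank_inf_eq W (B.orthogonal W)
      rw [h3, finrank_bot] at this
      omega
    intro x hx
    ext v
    obtain ⟨a, ha, b, hb, rfl⟩ := Submodule.mem_sup.1 (h6 ▸ Submodule.mem_top : v ∈ W ⊔ B.orthogonal W)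
    rw [map_add, hfix x (derivedSeries_antitone X (h1 _ hw1 hw2).1 hx) a ha,
      h5 x (derivedSeries_antitone X (h1 _ hw1 hw2).2 hx) b hb, Module.End.one_apply]
  · have hle : W ≤ B.orthogonal W := h3.ge.trans inf_le_right
    have h4 : 2 * finrank K W ≤ n := by
      have := Submodule.finrank_mono hle
      omega
    have h5 := h.quot hW hle (k := σ (n - 2 * finrank K W)) (by rw [hn]; exact hσ _ (by omega))
    have h6 := h.iso hW hle (j := max 1 (max (τ (finrank K W)) (σ (n - 2 * finrank K W))))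
      (fun x hx => hfix x (derivedSeries_antitone X (by omega) hx))
      (fun x hx => h5 x (derivedSeries_antitone X (by omega) hx))
      (fun x hx => der_le_ker m (le_max_left _ _) hx)
    have h7 := h2 _ hw1 h4
    intro x hx
    split_ifs at h7 with h8
    · exact h6.2 (by rw [hn]; exact h8) (derivedSeries_antitone X h7 hx)
    · exact h6.1 (derivedSeries_antitone X h7 hx)

end step

/-- the table of bounds for irreducible modules -/
def tauT : ℕ → ℕ
  | 0 => 0
  | 1 => 1
  | 2 => 4
  | 3 => 5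
  | 4 => 5
  | 5 => 6
  | 6 => 6
  | _ => 7

/-- the table of bounds for modules with a symmetric form -/
def sigT : ℕ → ℕ
  | 0 => 0
  | 1 => 1
  | 2 => 4
  | 3 => 5
  | 4 => 5
  | 5 => 6
  | 6 => 6
  | _ => 7

theorem tab_one : ∀ n ≤ 8, ∀ w < n, 1 ≤ w → tauT w ≤ sigT n ∧ sigT (n - w) ≤ sigT n := by decide

theorem tab_two : ∀ n ≤ 8, ∀ w ≤ 4, 1 ≤ w → 2 * w ≤ n →
    max 1 (max (tauT w) (sigT (n - 2 * w))) + (if w = 1 ∨ n = 2 * w then 1 else 2) ≤ sigT n := by decide

theorem formB_tab {K : Type} [Field K] (hτ : ∀ w, 1 ≤ w → w ≤ 7 → IrrB K w (tauT w)) (n : ℕ) (hn : n ≤ 7) :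
    FormB K n (sigT n) := by
  induction n using Nat.strong_induction_on with
  | _ n ih =>
    intro V _ _ _ X _ _ _ B ρ m hd hs
    by_cases hi : Irr ρ
    · rcases Nat.eq_zero_or_pos n with h0 | h0
      · intro x _
        have : Subsingleton V := Module.finrank_zero_iff.1 (hd.trans h0)
        ext v
        exact Subsingleton.elim _ _
      · exact hτ n h0 hn V X ρ hd hi
    · exact step hs hd hi tauT sigT (fun w h1 h2 => hτ w h1 (by omega)) (fun j hj => ih j hj (by omega))
        (fun w h1 h2 => tab_one n (by omega) w h2 h1) (fun w h1 h2 => tab_two n (by omega) w (by omega) h1 h2)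

/-- **Dimension eight**: the seventh derived subgroup acts by scalars. -/
theorem eight {K : Type} [Field K] (hτ : ∀ w, 1 ≤ w → w ≤ 7 → IrrB K w (tauT w)) (h8 : IrrP K 8 7)
    {V X : Type} [AddCommGroup V] [Module K V] [FiniteDimensional K V] [Group X] [Finite X] [Group.IsSolvable X]
    {B : LinearMap.BilinForm K V} {ρ : Representation K X V} {m : X →* Kˣ} (hd : finrank K V = 8) (hs : Sim B ρ m) :
    ∀ x ∈ derivedSeries X 7, ∃ c : K, ∀ v, ρ x v = c • v := by
  by_cases hi : Irr ρ
  · exact h8 V X ρ hd hi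
  · intro x hx
    have h := step hs hd hi tauT sigT (fun w h1 h2 => hτ w h1 (by omega)) (fun j hj => formB_tab hτ j (by omega))
      (fun w h1 h2 => tab_one 8 le_rfl w h2 h1) (fun w h1 h2 => tab_two 8 le_rfl w (by omega) h1 h2) x hx
    exact ⟨1, fun v => by rw [h, Module.End.one_apply, one_smul]⟩

end Cfsg.Agent.DS.D4
end

-- part: DS/Lin/Main
section
/-!
# Solvable linear groups of small degree, V: the tables (helper19)

`irr_bound` : irreducible modules over any field, `tau = 1, 4, 5, 5, 6, 6, 6, 8` in dimension `1, …, 8`;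
`lin_bound` : all modules over any field, `rhoT = 1, 4, 5, 6, 7, 7, 8, 8`;
`irr_eight` : the seventh derived subgroup acts by scalars on an irreducible module of dimension `8` over an algebraically
closed field.
-/

set_option autoImplicit false
set_option maxHeartbeats 400000

namespace Cfsg.Agent.DS.Lin

open Module Cfsg.Agent.H936

/-- projective bound -/
def PB (n k : ℕ) : Prop :=
  ∀ (K V X : Type) [Field K] [IsAlgClosed K] [AddCommGroup V] [Module K V] [FiniteDimensional K V] [Group X] [Finite X],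
    Group.IsSolvable X → ∀ ρ : X →* Module.End K V, Irr ρ → finrank K V = n → derivedSeries X k ≤ scal ρ

theorem dichotomy {n k : ℕ} (h1 : 1 ≤ n) (hn : n ≤ 24) (hβ : Beta n k) {K V X : Type} [Field K] [IsAlgClosed K]
    [AddCommGroup V] [Module K V] [FiniteDimensional K V] [Group X] [Finite X] (hX : Group.IsSolvable X)
    {ρ : X →* Module.End K V} (hi : Irr ρ) (hV : finrank K V = n) : derivedSeries X (k + 1) ≤ scal ρ ∨
      ∃ t a, 2 ≤ t ∧ 1 ≤ a ∧ t * a ≤ n ∧ ∀ s e, (∀ m ≤ t, Gen.sTab m ≤ s) → LB a e →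
        ∀ x ∈ derivedSeries X (s + e), ρ x = 1 := by
  subst hV
  have : Nontrivial V := Module.finrank_pos_iff.1 h1
  by_cases hp : ∀ N : Subgroup X, N.Normal → (∀ a ∈ N, ∀ b ∈ N, ρ a * ρ b = ρ b * ρ a) → N ≤ scal ρ
  · exact Or.inl (prim_case hX hp hβ)
  · push Not at hp
    obtain ⟨N, hN, hc, hs⟩ := hp
    exact Or.inr (imp_case hX hi hn N hc hs)

theorem eq_one_of_scal {K V X : Type*} [Field K] [AddCommGroup V] [Module K V] [Group X] {ρ : X →* Module.End K V} {k : ℕ}
    (h : derivedSeries X k ≤ scal ρ) : ∀ x ∈ derivedSeries X (k + 1), ρ x = 1 := by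
  have h1 : derivedSeries X (k + 1) ≤ ρ.ker := by
    rw [derivedSeries_succ, Subgroup.commutator_le]
    intro a ha b _
    have h2 : ρ a * ρ b = ρ b * ρ a := Tw.one_iff.1 (Tw.scal_left (h ha) b)
    rw [MonoidHom.mem_ker, commutatorElement_def, map_mul, map_mul, map_mul, h2, mul_assoc (ρ b), ← map_mul, mul_inv_cancel,
      map_one, mul_one, ← map_mul, mul_inv_cancel, map_one]
  exact fun x hx => h1 hx

/-- the bounds for permutation groups -/
def sT (t : ℕ) : ℕ := [0, 0, 1, 2, 3, 3, 3, 3, 4].getD t 0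

theorem sT_spec : ∀ t ≤ 8, ∀ m ≤ t, Gen.sTab m ≤ sT t := by decide

/-- irreducible modules -/
def tau (n : ℕ) : ℕ := [1, 1, 4, 5, 5, 6, 6, 6].getD n 8

/-- all modules -/
def rhoT (n : ℕ) : ℕ := [1, 1, 4, 5, 6, 7, 7].getD n 8

theorem tau_mono : Monotone tau := by
  refine monotone_nat_of_le_succ fun n => ?_
  by_cases h : n ≤ 7
  · interval_cases n <;> decide
  · obtain ⟨m, rfl⟩ : ∃ m, n = m + 8 := ⟨n - 8, by omega⟩
    exact le_rfl

theorem ib_of {n k e : ℕ} (h1 : 1 ≤ n) (hn : n ≤ 8) (hβ : Beta n k) (hk : k + 2 ≤ e) (hL : ∀ a, 1 ≤ a → a < n → LB a (rhoT a))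
    (he : ∀ t ≤ 8, ∀ a ≤ 8, 2 ≤ t → 1 ≤ a → t * a ≤ n → sT t + rhoT a ≤ e) : IB n e := by
  intro K V X _ _ _ _ _ _ _ hX ρ hi hV x hx
  rcases dichotomy h1 (by omega) hβ hX hi hV with h | ⟨t, a, ht, ha, hta, h⟩
  · exact eq_one_of_scal h x (derivedSeries_antitone X hk hx)
  · have h2 : t ≤ 8 := by nlinarith only [hn, ha, hta]
    exact h _ _ (sT_spec t h2) (hL a ha (by nlinarith only [ht, ha, hta])) x
      (derivedSeries_antitone X (he t h2 a (by nlinarith only [hn, ht, hta]) ht ha hta) hx)

theorem ib_one : IB 1 1 := by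
  intro K V X _ _ _ _ _ _ _ _ ρ _ hV
  refine eq_one_of_scal (k := 0) fun x _ => ?_
  obtain ⟨c, hc, -⟩ := LinearMap.existsUnique_eq_smul_id_of_finrank_eq_one hV (ρ x)
  exact ⟨c, fun v => by rw [hc]; rfl⟩

theorem ib_lb (n : ℕ) (h1 : 1 ≤ n) (hn : n ≤ 8) : IB n (tau n) ∧ LB n (rhoT n) := by
  induction n using Nat.strong_induction_on with
  | _ n ih =>
    have hL : ∀ a, 1 ≤ a → a < n → LB a (rhoT a) := fun a ha h => (ih a h ha (by omega)).2
    have hI : IB n (tau n) := by
      interval_cases n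
      · exact ib_one
      · exact ib_of h1 hn beta_two (by decide) hL (by decide)
      · exact ib_of h1 hn (beta_four.mono (by norm_num) le_rfl) (by decide) hL (by decide)
      · exact ib_of h1 hn beta_four (by decide) hL (by decide)
      · exact ib_of h1 hn (beta_seven.mono (by norm_num) le_rfl) (by decide) hL (by decide)
      · exact ib_of h1 hn (beta_seven.mono (by norm_num) le_rfl) (by decide) hL (by decide)
      · exact ib_of h1 hn beta_seven (by decide) hL (by decide)
      · exact ib_of h1 hn beta_eight (by decide) hL (by decide)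
    refine ⟨hI, lb_of tau_mono h1 (fun m hm hmn => ?_) ?_⟩
    · rcases hmn.eq_or_lt with rfl | h
      · exact hI
      · exact (ih m h hm (by omega)).1
    · interval_cases n <;> decide

theorem lb {n : ℕ} (hn : n ≤ 8) : LB n (rhoT n) := by
  rcases Nat.eq_zero_or_pos n with rfl | h
  · exact (ib_lb 1 le_rfl (by norm_num)).2.mono (by norm_num) le_rfl
  · exact (ib_lb n h hn).2

theorem sb {n : ℕ} (hn : n ≤ 8) : SB n (tau n) := by
  have h : ∀ n, 1 ≤ n → n ≤ 8 → SB n (tau n) := fun n h1 hn =>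
    sb_of tau_mono h1 fun m hm hmn => (ib_lb m hm (by omega)).1
  rcases Nat.eq_zero_or_pos n with rfl | h1
  · exact (h 1 le_rfl (by norm_num)).mono (by norm_num) le_rfl
  · exact h n h1 hn

theorem pb_eight : PB 8 7 := by
  intro K V X _ _ _ _ _ _ _ hX ρ hi hV x hx
  rcases dichotomy (by norm_num) (by norm_num) beta_eight hX hi hV with h | ⟨t, a, ht, ha, hta, h⟩
  · exact h hx
  · have h2 : t ≤ 8 := by nlinarith only [ha, hta]
    have h3 : a ≤ 8 := by nlinarith only [ht, hta]
    have h4 : ∀ t ≤ 8, ∀ a ≤ 8, 2 ≤ t → 1 ≤ a → t * a ≤ 8 → sT t + rhoT a ≤ 7 := by decide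
    have h5 := h _ _ (sT_spec t h2) (lb h3) x (derivedSeries_antitone X (h4 t h2 a h3 ht ha hta) hx)
    exact ⟨1, fun v => by rw [h5, one_smul]; rfl⟩

section wrappers

variable {K V X : Type} [Field K] [AddCommGroup V] [Module K V] [FiniteDimensional K V] [Group X] [Finite X]

/-- irreducible modules over any field -/
theorem irr_bound (hX : Group.IsSolvable X) (ρ : X →* Module.End K V) (hi : Irr ρ) {n k : ℕ} (hn : n ≤ 8)
    (hV : finrank K V ≤ n) (hk : tau n ≤ k) : ∀ x ∈ derivedSeries X k, ρ x = 1 :=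
  (sb hn).mono le_rfl hk K V X hX ρ hi hV

/-- all modules over any field -/
theorem lin_bound (hX : Group.IsSolvable X) (ρ : X →* Module.End K V) {n k : ℕ} (hn : n ≤ 8)
    (hV : finrank K V ≤ n) (hk : rhoT n ≤ k) : ∀ x ∈ derivedSeries X k, ρ x = 1 :=
  (lb hn).mono le_rfl hk K V X hX ρ hV

/-- dimension eight, projectively -/
theorem irr_eight [IsAlgClosed K] (hX : Group.IsSolvable X) (ρ : X →* Module.End K V) (hi : Irr ρ) (hV : finrank K V = 8) :
    ∀ x ∈ derivedSeries X 7, ∃ c : K, ∀ v, ρ x v = c • v :=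
  fun _ hx => pb_eight K V X hX ρ hi hV hx

/-- a finite group with a faithful representation of degree at most `n ≤ 8` -/
theorem sd_of_end (ρ : X →* Module.End K V) (hρ : ∀ x, ρ x = 1 → x = 1) {n k : ℕ} (hn : n ≤ 8)
    (hV : finrank K V ≤ n) (hk : rhoT n ≤ k) : SD k X := by
  intro Y hY
  rw [eq_bot_iff]
  intro x hx
  exact Subtype.ext (hρ _ (lin_bound hY (ρ.comp Y.subtype) hn hV hk x hx))

theorem sd_of_matrix {ι : Type} [Fintype ι] [DecidableEq ι] (ρ : X →* Matrix ι ι K) (hρ : ∀ x, ρ x = 1 → x = 1) {n k : ℕ}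
    (hn : n ≤ 8) (hV : Fintype.card ι ≤ n) (hk : rhoT n ≤ k) : SD k X := by
  refine sd_of_end ((Matrix.toLinAlgEquiv' (R := K) (n := ι)).toMonoidHom.comp ρ) (fun x hx => hρ x ?_) hn
    (by rwa [Module.finrank_fintype_fun_eq_card]) hk
  exact (map_eq_one_iff _ (Matrix.toLinAlgEquiv' (R := K) (n := ι)).injective).1 hx

theorem sd_of_gl {ι : Type} [Fintype ι] [DecidableEq ι] (ρ : X →* GL ι K) (hρ : Function.Injective ρ) {n k : ℕ}
    (hn : n ≤ 8) (hV : Fintype.card ι ≤ n) (hk : rhoT n ≤ k) : SD k X := by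
  refine sd_of_matrix ((Units.coeHom _).comp ρ) (fun x hx => hρ ?_) hn hV hk
  rw [map_one]
  exact Units.ext hx

/-- actions on elementary abelian groups of rank at most `n ≤ 8` -/
theorem act_bound (hX : Group.IsSolvable X) {E : Type} [AddCommGroup E] [Finite E] (φ : X → E →+ E) (h1 : ∀ a, φ 1 a = a)
    (h2 : ∀ x y a, φ (x * y) a = φ x (φ y a)) {p : ℕ} (hp : p.Prime) (he : ∀ a : E, p • a = 0) {n k : ℕ} (hn : n ≤ 8)
    (hE : Nat.card E ≤ p ^ n) (hk : rhoT n ≤ k) : ∀ x ∈ derivedSeries X k, ∀ a, φ x a = a := by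
  have := Fact.mk hp
  obtain ⟨inst⟩ : Nonempty (Module (ZMod p) E) := ⟨AddCommGroup.zmodModule he⟩
  have : Module.Finite (ZMod p) E := Module.Finite.of_finite
  let ρ : X →* Module.End (ZMod p) E :=
    { toFun := fun x => (φ x).toZModLinearMap p
      map_one' := LinearMap.ext h1
      map_mul' := fun x y => LinearMap.ext (h2 x y) }
  refine fun x hx a => LinearMap.congr_fun (lin_bound hX ρ hn ?_ hk x hx) a
  have h3 := Module.natCard_eq_pow_finrank (K := ZMod p) (V := E)
  rwa [h3, Nat.card_zmod, Nat.pow_le_pow_iff_right hp.one_lt] at hE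

theorem sd_mulAut_comm {E : Type} [CommGroup E] [Finite E] {p : ℕ} (hp : p.Prime)
    (he : ∀ a : E, a ^ p = 1) {n k : ℕ} (hn : n ≤ 8) (hE : Nat.card E ≤ p ^ n) (hk : rhoT n ≤ k) : SD k (MulAut E) := by
  intro Y hY
  rw [eq_bot_iff]
  intro x hx
  exact Subtype.ext (MulEquiv.ext fun a => act_bound hY (E := Additive E)
    (fun y => MonoidHom.toAdditive (y : MulAut E).toMonoidHom) (fun _ => rfl) (fun _ _ _ => rfl) hp
    (fun a => he a.toMul) hn hE hk x hx (Additive.ofMul a))

/-- automorphism groups of elementary abelian groups of rank at most `n ≤ 8` -/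
theorem sd_mulAut {E : Type} [Group E] [Finite E] {p : ℕ} (hp : p.Prime) (hc : ∀ a b : E, a * b = b * a)
    (he : ∀ a : E, a ^ p = 1) {n k : ℕ} (hn : n ≤ 8) (hE : Nat.card E ≤ p ^ n) (hk : rhoT n ≤ k) : SD k (MulAut E) :=
  @sd_mulAut_comm E { (inferInstance : Group E) with mul_comm := hc } _ p hp he n k hn hE hk

end wrappers

theorem irrB (K : Type) [Field K] {w : ℕ} (hw : w ≤ 8) {k : ℕ} (hk : tau w ≤ k) : D4.IrrB K w k :=
  fun _ _ _ _ _ _ _ hX ρ hV hi => irr_bound hX ρ hi hw hV.le hk

theorem irrP (K : Type) [Field K] [IsAlgClosed K] : D4.IrrP K 8 7 :=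
  fun _ _ _ _ _ _ _ hX ρ hV hi => irr_eight hX ρ hi hV

end Cfsg.Agent.DS.Lin
end

private theorem dce_49885dd7a826 : _root_.True := by
  try have : _root_.True := by simp only [_root_.Cfsg.Agent.DS.Lin.wt.eq_1]
  try have : _root_.True := by simp only [_root_.Cfsg.Agent.DS.Lin.Tw.eq_1]
  exact _root_.True.intro
end
end
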